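import Cfsg.Agent.ThreeTransposition.M23Count.Centraliser
import Cfsg.Agent.ThreeTransposition.RelationTypes

/-!
Facts about the descended class carried to the group: the member in the group of its neighbours, the centraliser
condition, the width, perfectness.
-/

set_option autoImplicit false
set_option linter.unusedSectionVars false
set_option linter.style.haveILetI false

namespace Cfsg.Lib.ThreeTr

open Cfsg Subgroup
open scoped commutatorElement

universe u

variable {G : Type u} [Group G] {D : Set G}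

theorem map_conj_closure_perp (hcls : IsThreeTranspositionClass D) (g p : G) :
    (closure (perp D p)).map (MulAut.conj g).toMonoidHom = closure (perp D (g * p * g⁻¹)) := by
  rw [MonoidHom.map_closure, ← conj_image_perp hcls g p]
  rfl

theorem self_mem_all (hcls : IsThreeTranspositionClass D) {d : G} (hd : d ∈ D) (h : d ∈ closure (perp D d)) :
    ∀ p ∈ D, p ∈ closure (perp D p) := by
  intro p hp
  obtain ⟨g, rfl⟩ := exists_conj hcls hd hp
  rw [← map_conj_closure_perp hcls g d]
  exact ⟨d, h, rfl⟩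

/-- The members of `perp D p` as a class in the group they generate. -/
theorem perp_class [Finite G] (hR : Rich D) {p : G} (hp : p ∈ D) :
    IsThreeTranspositionClass {x : ↥(closure (perp D p)) | (x : G) ∈ perp D p} := by
  obtain ⟨x₀, hx₀⟩ := hR.exists_perp hp
  refine ⟨⟨fun x hx => ?_, fun x hx y hy => ?_⟩, ⟨⟨x₀, subset_closure hx₀⟩, hx₀, ?_⟩, closure_perp_eq_top p⟩
  · rw [← Subgroup.orderOf_coe]; exact hR.cls.1.1 _ hx.1
  · rcases hR.cls.1.2 _ hx.1 _ hy.1 with h' | h'
    · exact Or.inl (Subtype.ext (by simpa using h'))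
    · exact Or.inr (Subtype.ext (by simpa using h'))
  ext x
  constructor
  · intro hx
    obtain ⟨g, hg, hgx⟩ := hR.perp_transitive hp hx₀ hx
    exact isConj_iff.2 ⟨⟨g, hg⟩, Subtype.ext hgx⟩
  · intro hx
    obtain ⟨g, rfl⟩ := isConj_iff.1 hx
    simpa using conj_mem_perp (fun g d hd => conj_mem hR.cls g hd) g.2 hx₀

section

variable [Finite G] (hcls : IsThreeTranspositionClass D) (hT : TwinFree D) {d : G} (hd : d ∈ D)
include hcls hT hd

/-- A relation in the descended class gives a product of neighbours centralising all neighbours. -/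
theorem lift_relation {s : List (↥(closure (perp D d)) ⧸ center ↥(closure (perp D d)))} (hnd : s.Nodup)
    (hmem : ∀ q ∈ s, q ∈ descSet D d) (hcomm : ∀ q ∈ s, ∀ r ∈ s, Commute q r) (hprod : s.prod = 1) :
    ∃ l : List G, l.Nodup ∧ l.length = s.length ∧ (∀ x ∈ l, x ∈ perp D d) ∧ (∀ x ∈ l, ∀ y ∈ l, Commute x y) ∧
      l.prod ∈ closure (perp D d) ∧ ∀ e ∈ perp D d, Commute e l.prod := by
  have hlift : ∀ q ∈ s, ∃ x : ↥(closure (perp D d)), (x : G) ∈ perp D d ∧
      (QuotientGroup.mk x : _ ⧸ center ↥(closure (perp D d))) = q := hmem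
  choose f hf hfπ using hlift
  set l₁ : List ↥(closure (perp D d)) := s.attach.map fun q => f q.1 q.2 with hl₁
  have hπ : l₁.map (QuotientGroup.mk' (center ↥(closure (perp D d)))) = s := by
    rw [hl₁, List.map_map]
    conv_rhs => rw [← List.attach_map_subtype_val s]
    exact List.map_congr_left fun q _ => hfπ q.1 q.2
  have hmem₁ : ∀ x ∈ l₁, (x : G) ∈ perp D d := fun x hx => by
    obtain ⟨q, -, rfl⟩ := List.mem_map.1 hx
    exact hf q.1 q.2
  have hnd₁ : l₁.Nodup := (hπ.symm ▸ hnd : (l₁.map _).Nodup).of_map _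
  have hcen : l₁.prod ∈ center ↥(closure (perp D d)) := by
    rw [← QuotientGroup.eq_one_iff]
    show QuotientGroup.mk' _ l₁.prod = 1
    rw [map_list_prod, hπ, hprod]
  refine ⟨l₁.map Subtype.val, hnd₁.map Subtype.val_injective, by simp [hl₁], fun x hx => ?_, fun x hx y hy => ?_,
    ?_, fun e he => ?_⟩
  · obtain ⟨u, hu, rfl⟩ := List.mem_map.1 hx
    exact hmem₁ u hu
  · obtain ⟨u, hu, rfl⟩ := List.mem_map.1 hx
    obtain ⟨v, hv, rfl⟩ := List.mem_map.1 hy
    exact (desc_commute_iff hcls hT hd (hmem₁ u hu) (hmem₁ v hv)).1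
      (hcomm _ (hπ ▸ List.mem_map_of_mem hu) _ (hπ ▸ List.mem_map_of_mem hv))
  · rw [← SubmonoidClass.coe_list_prod]; exact l₁.prod.2
  · rw [← SubmonoidClass.coe_list_prod]
    exact congrArg Subtype.val (mem_center_iff.1 hcen ⟨e, subset_closure he⟩)

theorem map_descImg {S : Set G} (hS : S ⊆ perp D d) :
    closure (descImg D d S) =
      ((closure S).subgroupOf (closure (perp D d))).map (QuotientGroup.mk' (center ↥(closure (perp D d)))) := by
  have e : (closure S).subgroupOf (closure (perp D d)) = closure {x : ↥(closure (perp D d)) | (x : G) ∈ S} := by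
    apply Subgroup.map_injective (closure (perp D d)).subtype_injective
    rw [subgroupOf_map_subtype, inf_of_le_left (closure_mono hS), MonoidHom.map_closure]
    congr 1
    ext x
    exact ⟨fun hx => ⟨⟨x, subset_closure (hS hx)⟩, hx, rfl⟩, by rintro ⟨y, hy, rfl⟩; exact hy⟩
  rw [e, MonoidHom.map_closure]
  rfl

/-- The centraliser condition from the centralisers in the descended class. -/
theorem stab_of_desc (hC : ∀ q ∈ descSet D d,
      centralizer ({q} : Set (↥(closure (perp D d)) ⧸ center ↥(closure (perp D d)))) =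
        closure (perp (descSet D d) q)) :
    ∀ p ∈ D, ∀ x ∈ perp D p, ∀ g ∈ closure (perp D p), Commute g x →
      ∃ k ∈ closure (perp D p ∩ perp D x), ∃ z : G, (∀ e ∈ perp D p, Commute e z) ∧
        z ∈ closure (perp D p) ∧ g = k * z := by
  have base : ∀ x ∈ perp D d, ∀ g ∈ closure (perp D d), Commute g x →
      ∃ k ∈ closure (perp D d ∩ perp D x), ∃ z : G, (∀ e ∈ perp D d, Commute e z) ∧
        z ∈ closure (perp D d) ∧ g = k * z := by
    intro x hx g hg hgx
    set π := QuotientGroup.mk' (center ↥(closure (perp D d)))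
    set X : ↥(closure (perp D d)) := ⟨x, subset_closure hx⟩
    have hm : π ⟨g, hg⟩ ∈ ((closure (perp D d ∩ perp D x)).subgroupOf (closure (perp D d))).map π := by
      rw [← map_descImg hcls hT hd Set.inter_subset_left, ← perp_descImg hcls hT hd (x := X) hx,
        ← hC _ ⟨X, hx, rfl⟩, mem_centralizer_singleton_iff]
      exact ((show Commute (⟨g, hg⟩ : ↥(closure (perp D d))) X from Subtype.ext hgx.eq).map π).eq
    obtain ⟨u, hu, e⟩ := hm
    refine ⟨u, hu, ((u⁻¹ * ⟨g, hg⟩ : ↥(closure (perp D d))) : G), fun e' he' => ?_, SetLike.coe_mem _, by simp⟩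
    exact congrArg Subtype.val (mem_center_iff.1 (QuotientGroup.eq.1 e) ⟨e', subset_closure he'⟩)
  intro p hp x hx g hg hgx
  obtain ⟨t, ht⟩ := exists_conj hcls hd hp
  subst ht
  rw [← map_conj_closure_perp hcls t d] at hg
  obtain ⟨g, hg, rfl⟩ := hg
  rw [← conj_image_perp hcls t d] at hx
  obtain ⟨x, hx, rfl⟩ := hx
  obtain ⟨k, hk, z, hz, hzH, e⟩ := base x hx g hg ((conj_commute_iff t g x).1 hgx)
  refine ⟨t * k * t⁻¹, ?_, t * z * t⁻¹, fun e' he' => ?_, ?_, ?_⟩
  · rw [← conj_image_perp hcls t d, ← conj_image_perp hcls t x, ← Set.image_inter (conj_image_injective t)]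
    have : t * k * t⁻¹ ∈ (closure (perp D d ∩ perp D x)).map (MulAut.conj t).toMonoidHom := ⟨k, hk, rfl⟩
    rwa [MonoidHom.map_closure] at this
  · rw [← conj_image_perp hcls t d] at he'
    obtain ⟨w, hw, rfl⟩ := he'
    exact (conj_commute_iff t w z).2 (hz w hw)
  · rw [← map_conj_closure_perp hcls t d]; exact ⟨z, hzH, rfl⟩
  · show t * g * t⁻¹ = _
    rw [e]; group

/-- One more than the width of the descended class. -/
theorem width_of_desc {w : ℕ} (hw : commutingWidth (descSet D d) = w) : commutingWidth D = w + 1 := by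
  have hbdd : BddAbove {n : ℕ | ∃ E : Set G, E ⊆ D ∧ E.Finite ∧ (∀ a ∈ E, ∀ b ∈ E, Commute a b) ∧ E.ncard = n} :=
    ⟨Nat.card G, by rintro n ⟨E', -, -, -, rfl⟩; exact Set.ncard_le_card E'⟩
  set S := {n : ℕ | ∃ E : Set (↥(closure (perp D d)) ⧸ center ↥(closure (perp D d))),
    E ⊆ descSet D d ∧ E.Finite ∧ (∀ a ∈ E, ∀ b ∈ E, Commute a b) ∧ E.ncard = n}
  have hbdd' : BddAbove S :=
    ⟨Nat.card (↥(closure (perp D d)) ⧸ center ↥(closure (perp D d))), by
      rintro n ⟨E', -, -, -, rfl⟩; exact Set.ncard_le_card E'⟩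
  have hne' : S.Nonempty := ⟨0, ∅, Set.empty_subset _, Set.finite_empty, by simp, Set.ncard_empty _⟩
  refine le_antisymm (csSup_le' ?_) ?_
  · rintro n ⟨E, hE, -, hc, rfl⟩
    rcases E.eq_empty_or_nonempty with rfl | ⟨x, hx⟩
    · simp
    obtain ⟨g, hg⟩ := exists_conj hcls (hE hx) hd
    set F := (fun y => g * y * g⁻¹) '' (E \ {x})
    have hF : F ⊆ perp D d := by
      rw [← hg, ← conj_image_perp hcls g x]
      exact Set.image_mono fun y hy => ⟨hE hy.1, hy.2, hc x hx y hy.1⟩
    have hle : F.ncard ≤ w := by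
      rw [← hw, ← ncard_descImg hcls hT hd hF]
      refine le_csSup hbdd' ⟨descImg D d F, fun q ⟨u, hu, e⟩ => ⟨u, hF hu, e⟩, Set.toFinite _, ?_, rfl⟩
      rintro _ ⟨u, hu, rfl⟩ _ ⟨v, hv, rfl⟩
      refine (desc_commute_iff hcls hT hd (hF hu) (hF hv)).2 ?_
      obtain ⟨a, ha, ea⟩ := hu
      obtain ⟨b, hb, eb⟩ := hv
      rw [← ea, ← eb]
      exact (conj_commute_iff g a b).2 (hc a ha.1 b hb.1)
    rw [Set.ncard_image_of_injective _ (conj_image_injective g), Set.ncard_sdiff_singleton_of_mem hx] at hle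
    omega
  · obtain ⟨E, hE, -, hc, hn⟩ : w ∈ S := hw ▸ Nat.sSup_mem hne' hbdd'
    set F : Set G := {x | ∃ u : ↥(closure (perp D d)), (u : G) = x ∧ x ∈ perp D d ∧ QuotientGroup.mk u ∈ E}
    have hF : F ⊆ perp D d := fun x ⟨u, _, h, _⟩ => h
    have hEF : descImg D d F = E := by
      refine Set.Subset.antisymm ?_ fun q hq => ?_
      · rintro _ ⟨u, ⟨v, hv, -, hvE⟩, rfl⟩
        rwa [Subtype.ext hv] at hvE
      · obtain ⟨u, hu, rfl⟩ := hE hq
        exact ⟨u, ⟨u, rfl, hu, hq⟩, rfl⟩
    have hFc : F.ncard = w := by rw [← ncard_descImg hcls hT hd hF, hEF, hn]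
    refine le_csSup hbdd ⟨insert d F, Set.insert_subset hd fun x hx => (hF hx).1, Set.toFinite _, ?_, ?_⟩
    · rintro x (rfl | hx) y (rfl | hy)
      · exact Commute.refl _
      · exact (hF hy).2.2
      · exact (hF hx).2.2.symm
      · obtain ⟨u, rfl, hu, huE⟩ := hx
        obtain ⟨v, rfl, hv, hvE⟩ := hy
        exact (desc_commute_iff hcls hT hd hu hv).1 (hc _ huE _ hvE)
    · rw [Set.ncard_insert_of_notMem (fun hh => (hF hh).2.1 rfl) (Set.toFinite _), hFc]

end

theorem center_eq_bot_map {H : Type*} [Group H] (e : G ≃* H) (h : center G = ⊥) : center H = ⊥ := by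
  rw [eq_bot_iff]
  intro x hx
  have hm : e.symm x ∈ center G := mem_center_iff.2 fun y => by
    apply e.injective
    rw [map_mul, map_mul, e.apply_symm_apply, mem_center_iff.1 hx (e y)]
  rw [h, mem_bot] at hm
  exact mem_bot.2 (by rw [← e.apply_symm_apply x, hm, map_one])

/-- All neighbours being conjugate, a member that is an even product of neighbours forces perfectness. -/
theorem perfect_closure_perp [Finite G] (hR : Rich D) {a : G} (ha : a ∈ D) {l : List G}
    (hl : ∀ x ∈ l, x ∈ perp D a) (heven : Even l.length) (hprod : l.prod = a)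
    (hperf : commutator (↥(closure (perp D a)) ⧸ center ↥(closure (perp D a))) = ⊤)
    (hcen : center ↥(closure (perp D a)) ≤ (zpowers a).subgroupOf (closure (perp D a))) :
    commutator ↥(closure (perp D a)) = ⊤ := by
  set K := closure (perp D a)
  set π := QuotientGroup.mk' (commutator ↥K)
  let ι : {y // y ∈ perp D a} → ↥K := fun y => ⟨y.1, subset_closure y.2⟩
  have hconst : ∀ y z, π (ι y) = π (ι z) := by
    intro y z
    obtain ⟨g, hg⟩ : ∃ g : ↥K, g * ι y * g⁻¹ = ι z := exists_conj (perp_class hR ha) (show ι y ∈ {x : ↥K | (x : G) ∈ perp D a} from y.2)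
      (show ι z ∈ {x : ↥K | (x : G) ∈ perp D a} from z.2)
    show (QuotientGroup.mk (ι y) : ↥K ⧸ commutator ↥K) = QuotientGroup.mk (ι z)
    refine QuotientGroup.eq.2 ?_
    rw [← hg, show (ι y)⁻¹ * (g * ι y * g⁻¹) = ⁅(ι y)⁻¹, g⁆ by rw [commutatorElement_def]; group, commutator_def]
    exact commutator_mem_commutator (mem_top _) (mem_top _)
  obtain ⟨x₀, hx₀⟩ := hR.exists_perp ha
  set y₀ : {y // y ∈ perp D a} := ⟨x₀, hx₀⟩
  have hpow : ∀ (s : List G) (hs : ∀ z ∈ s, z ∈ perp D a),
      π ((s.pmap (fun z hz => ι ⟨z, hz⟩) hs).prod) = π (ι y₀) ^ s.length := by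
    intro s
    induction s with
    | nil => intro _; simp
    | cons z t ih =>
      intro hs
      rw [List.pmap_cons, List.prod_cons, map_mul, ih, List.length_cons, hconst _ y₀, pow_succ']
  have hy2 : π (ι y₀) * π (ι y₀) = 1 := by
    rw [← map_mul, show ι y₀ * ι y₀ = 1 from Subtype.ext (sq_eq_one hR.cls.1 hx₀.1), map_one]
  have haK : a ∈ K := hprod ▸ list_prod_mem fun x hx => subset_closure (hl x hx)
  have hmem : (⟨a, haK⟩ : ↥K) ∈ commutator ↥K := by
    rw [← QuotientGroup.eq_one_iff]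
    show π _ = 1
    rw [show (⟨a, haK⟩ : ↥K) = (l.pmap (fun z hz => ι ⟨z, hz⟩) hl).prod from Subtype.ext (by
      rw [SubmonoidClass.coe_list_prod]; simp [ι, hprod]), hpow]
    obtain ⟨r, hr⟩ := heven
    rw [hr, ← two_mul, pow_mul, sq, hy2, one_pow]
  have hZ : center ↥K ≤ commutator ↥K := fun z hz => by
    obtain ⟨n, hn⟩ := mem_zpowers_iff.1 (mem_subgroupOf.1 (hcen hz))
    rw [show z = (⟨a, haK⟩ : ↥K) ^ n from Subtype.ext (by simp [hn])]
    exact zpow_mem hmem n
  rw [eq_top_iff]
  intro x _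
  have h1 : QuotientGroup.mk' (center ↥K) x ∈ (commutator ↥K).map (QuotientGroup.mk' (center ↥K)) := by
    rw [_root_.commutator_def, map_commutator, map_top_of_surjective _ (QuotientGroup.mk'_surjective _),
      ← _root_.commutator_def, hperf]
    exact mem_top _
  obtain ⟨u, hu, e⟩ := h1
  have : u⁻¹ * x ∈ commutator ↥K := hZ (QuotientGroup.eq.1 e)
  simpa using mul_mem hu this

end Cfsg.Lib.ThreeTr
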