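import Cfsg.Agent.ThreeTransposition.M23Count.Desc
import Cfsg.Agent.ThreeTransposition.M23Count.Lift
import Cfsg.Agent.ThreeTransposition.M22Count.Bases
import Cfsg.Agent.S5360
import Cfsg.Agent.S5361

/-!
A primitive class of type M(23): 31671 members, 351 common neighbours for noncommuting ones, the centraliser of a
member, the order, simplicity and the width.
-/

set_option autoImplicit false
set_option linter.unusedSectionVars false
set_option linter.style.haveILetI false

namespace Cfsg.Lib.ThreeTr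

open Cfsg Subgroup

attribute [local instance] _root_.Classical.propDecidable

universe u

variable {G : Type u} [Group G] {D : Set G}

/-- The neighbours in type M(22), in parameter form. -/
theorem M22.level [Finite G] (h : M22 D) : Level D 3510 693 180 126 45 := by
  obtain ⟨-, a₀, ha₀, c₀, hc₀, hac₀, -⟩ := h.type
  refine ⟨h.card_eq ha₀ hc₀ hac₀, fun p hp => h.ncard_perp hp, fun p hp x hx => ?_,
    fun p hp x hx hpx => h.mu_eq hp hx hpx, fun p hp x hx y hy hc => ?_, fun x hx y hy hxy w hw hall => ?_⟩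
  · have e : {y : G | y ∈ perp D p ∧ Commute y x} = insert x (perp D p ∩ perp D x) := by
      ext y
      constructor
      · rintro ⟨hy, hc⟩
        by_cases e : y = x
        · exact Or.inl e
        · exact Or.inr ⟨hy, hy.1, e, hc.symm⟩
      · rintro (rfl | ⟨hy, -, -, hc⟩)
        · exact ⟨hx, Commute.refl _⟩
        · exact ⟨hy, hc.symm⟩
    have := h.ncard_one hp hx
    rw [e, Set.ncard_insert_of_notMem (fun hh => hh.2.2.1 rfl) (Set.toFinite _)] at this
    omega
  · rw [← h.ncard_pair hp hx hy hc]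
    congr 1
    ext z
    constructor
    · rintro ⟨⟨h1, h2⟩, h3⟩; exact ⟨h1, h2.2.2.symm, h3.2.2.symm⟩
    · rintro ⟨h1, h2, h3⟩
      exact ⟨⟨h1, h1.1, fun e => hc (e ▸ h3), h2.symm⟩, h1.1, fun e => hc (e ▸ h2).symm, h3.symm⟩
  · obtain ⟨f, hf⟩ := Set.nonempty_of_ncard_ne_zero (s := perp D x ∩ perp D y) (by rw [h.mu_eq hx hy hxy]; norm_num)
    have hxf : x ∈ perp D f := ⟨hx, hf.1.2.1.symm, hf.1.2.2.symm⟩
    have hyf : y ∈ perp D f := ⟨hy, hf.2.2.1.symm, hf.2.2.2.symm⟩
    have hwne : w ≠ f := fun e => by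
      obtain ⟨g, hg, hgf⟩ := h.exists_far hx hy hxy hf
      exact hgf (e ▸ hall g hg.1.1 hg.1.2.2.symm hg.2.2.2.symm)
    exact h.double_perp hf.1.1 hxf hyf hxy
      ⟨hw, hwne, hall f hf.1.1 hf.1.2.2.symm hf.2.2.2.symm⟩ fun z hz => hall z hz.1

/-- The intersection group of the defining pair of type M(22) is not trivial. -/
theorem inter_nonempty_of_projReflection {S : Set G} {n : ℕ} (hn : 5 ≤ n) {μ c : ZMod 3} (hc : c ≠ 0)
    (h : IsProjReflectionGroupModThree (↥(closure S) ⧸ center ↥(closure S)) n μ c) : S.Nonempty := by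
  rw [Set.nonempty_iff_ne_empty]
  rintro rfl
  obtain ⟨Q, hQ, -, ⟨e⟩⟩ := h
  obtain ⟨⟨hperf, hsimp⟩, -⟩ := Cfsg.Agent.S5360.result n hn Q hQ c hc
  set R := ↥(reflectionSubgroup (⇑Q) c)
  haveI : Subsingleton ↥(closure (∅ : Set G)) := by rw [Subgroup.closure_empty]; infer_instance
  haveI : Subsingleton (R ⧸ center R) :=
    haveI : Subsingleton (↥(closure (∅ : Set G)) ⧸ center ↥(closure (∅ : Set G))) :=
      (QuotientGroup.mk'_surjective _).subsingleton
    e.symm.toEquiv.subsingleton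
  have hall : ∀ x : R, x ∈ center R := fun x => (QuotientGroup.eq_one_iff x).1 (Subsingleton.elim _ _)
  have hbot : commutator R = ⊥ := by
    rw [eq_bot_iff, _root_.commutator_def, commutator_le]
    intro x _ y _
    exact mem_bot.2 (commutatorElement_eq_one_iff_mul_comm.2 (mem_center_iff.1 (hall y) x))
  haveI := hsimp.toNontrivial
  haveI : Subsingleton ↥(commutator R) := by rw [hbot]; infer_instance
  haveI : Subsingleton (↥(commutator R) ⧸ center ↥(commutator R)) :=
    (QuotientGroup.mk'_surjective _).subsingleton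
  exact not_subsingleton (↥(commutator R) ⧸ center ↥(commutator R)) inferInstance

/-- Primitive classes of type M(23), with the distinguished member. -/
theorem m23_desc [Finite G] (hD : IsThreeTranspositionGroup D) (hprim : IsPrimitiveUnderConj D)
    (ht : IsOfTypeM23 G D) : ∃ d ∈ D, IsThreeTranspositionClass D ∧ TwinFree D ∧ Rich D ∧ center G = ⊥ ∧
      M22 (descSet D d) := by
  obtain ⟨hE, hconj, hgen⟩ := hD
  obtain ⟨hZ, d, hd, c, -, -, h22, -⟩ := ht
  have hcls : IsThreeTranspositionClass D :=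
    ⟨hE, ⟨d, hd, Set.Subset.antisymm (fun x hx => isConj_iff.2 (hprim.1 d hd x hx)) fun x hx => by
      obtain ⟨g, rfl⟩ := isConj_iff.1 hx
      exact hconj g d hd⟩, hgen⟩
  have hT : TwinFree D := fun a ha b hb hab => eq_of_vRel_of_primitive hprim hcls ha hb hab
  have hnc : ∀ x : ↥(closure (perp D d)), (x : G) ∈ perp D d → x ∉ center ↥(closure (perp D d)) :=
    fun x hx => not_mem_center_of_twinFree hcls hT hd hx
  have hQ : IsThreeTranspositionGroup (descSet D d) :=
    ⟨descSet_set hE hnc, fun g x hx => conj_mem_descSet hconj g hx, closure_descSet d⟩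
  change IsOfTypeM22 _ (descSet D d) at h22
  obtain ⟨hQcls, hQT⟩ := m22_class hQ h22
  obtain ⟨-, d₂, hd₂, c₂, hc₂, hdc₂, -, c₃, hc₃, hrefl⟩ := id h22
  change IsProjReflectionGroupModThree (↥(closure (perp (descSet D d) d₂ ∩ perp (descSet D d) c₂)) ⧸
    center ↥(closure (perp (descSet D d) d₂ ∩ perp (descSet D d) c₂))) 6 1 c₃ at hrefl
  obtain ⟨q, hq⟩ := inter_nonempty_of_projReflection (by norm_num) hc₃ hrefl
  obtain ⟨u, hu, rfl⟩ := hd₂
  obtain ⟨v, hv, rfl⟩ := hc₂
  obtain ⟨w, hw, rfl⟩ := hq.1.1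
  have hR : Rich D := ⟨hcls, hprim, d, hd, u, hu.1, hu.2.1.symm, hu.2.2⟩
  have hcommon : ∀ x ∈ perp D d, ∀ y ∈ perp D d, ¬ Commute x y →
      ∃ z ∈ perp D d, Commute z x ∧ Commute z y := fun x hx y hy hxy =>
    hR.common_neighbour hd hx hy hxy hd hu hv (fun e => hdc₂ ((desc_commute_iff hcls hT hd hu hv).2 e)) hw
      ((desc_commute_iff hcls hT hd hw hu).1 hq.1.2.2.symm) ((desc_commute_iff hcls hT hd hw hv).1 hq.2.2.2.symm)
  obtain ⟨d₃, hd₃, -, -, -, -, hsimp, hZ₃, -⟩ := m22_perp_facts h22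
  have hN : NeighbourFree (descSet D d) := by
    haveI := hsimp
    obtain ⟨hcls₃, -⟩ := class_of_simple (descSet_set hQcls.1 fun x hx => not_mem_center_of_twinFree hQcls hQT hd₃ hx)
      (fun g x hx => conj_mem_descSet (fun g y hy => conj_mem hQcls g hy) g hx) (closure_descSet d₃) hZ₃
    obtain ⟨_, ⟨y, hy, -⟩, -⟩ := hcls₃.2.1
    exact neighbourFree_of_desc hQcls hQT hd₃ ⟨_, hy⟩ (neighbourFree_of_simple hcls₃)
  refine ⟨d, hd, hcls, hT, hR, hZ, hQcls, ?_, hQT, h22⟩
  exact primitive_of_linked hQcls hQT hN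
    ⟨_, ⟨u, hu, rfl⟩, _, ⟨v, hv, rfl⟩, fun e => hdc₂ (e ▸ Commute.refl _)⟩ (linked_descSet hcommon)

theorem divisors_m23 : ∀ x ∈ Nat.divisors 512, ∀ y ∈ Nat.divisors 351, ∀ z ∈ Nat.divisors 55,
    x * y * z < 3510 → (x * y * z : ℕ) ≠ 351 → (x * y * z : ℕ) ≠ 715 →
    ¬ ((((((9884160 / (x * y * z) + 3510 : ℕ) : ℤ)) * (693 - ((x * y * z : ℕ) : ℤ)) + 7020) ^ 2) %
        ((693 - ((x * y * z : ℕ) : ℤ)) ^ 2 + 4 * (3510 - ((x * y * z : ℕ) : ℤ))) = 0 ∧
      IsSquare (((((9884160 / (x * y * z) + 3510 : ℕ) : ℤ)) * (693 - ((x * y * z : ℕ) : ℤ)) + 7020) ^ 2 /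
        ((693 - ((x * y * z : ℕ) : ℤ)) ^ 2 + 4 * (3510 - ((x * y * z : ℕ) : ℤ)))).natAbs) := by
  decide +kernel

/-- The parameters of a class of type M(23). -/
theorem m23_full [Finite G] {d : G} (hd : d ∈ D) (hcls : IsThreeTranspositionClass D) (hT : TwinFree D)
    (hR : Rich D) (hZ : center G = ⊥) (hQ : M22 (descSet D d)) : Full D 31671 3510 693 180 351 126 45 := by
  have T : Tower D 3510 693 180 126 45 := Tower.of_level hcls hT hd hR hZ hQ.level
  have key : ∀ {a c : G}, a ∈ D → c ∈ D → ¬ Commute a c →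
      (perp D a ∩ perp D c).ncard = 351 ∧ D.ncard = 31671 := by
    intro a c ha hc hac
    have hp := T.paths ha hc hac
    have hcard := T.card_members ha hc hac
    set μ := (perp D a ∩ perp D c).ncard with hμ
    set M := ((mem' D).filter fun e => ¬ Commute a e).card with hM
    norm_num at hp
    have hpos : 0 < μ := Nat.pos_of_ne_zero fun e => by simp [e] at hp
    have hlt : μ < 3510 := T.inter_lt ha hc hac
    obtain ⟨xy, hxy, z, hz, e⟩ : ∃ a, a ∣ 512 * 351 ∧ ∃ b, b ∣ 55 ∧ μ = a * b := by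
      have : μ ∣ 512 * 351 * 55 := ⟨M, by linarith [hp]⟩
      obtain ⟨a, b, h1, h2, h3⟩ := Nat.dvd_mul.1 this
      exact ⟨a, h1, b, h2, h3.symm⟩
    obtain ⟨x, y, hx, hy, rfl⟩ := Nat.dvd_mul.1 hxy
    have hdiv : 9884160 / μ = M := by rw [← hp]; exact Nat.mul_div_cancel M hpos
    by_cases h351 : μ = 351
    · refine ⟨h351, ?_⟩
      rw [h351] at hdiv
      omega
    exfalso
    by_cases h715 : μ = 715
    · have := T.window ha hc hac hpos
      rw [← hμ, h715] at this
      norm_num at this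
    obtain ⟨q, hq⟩ := T.trace_cond ha hc hac
    refine divisors_m23 x (Nat.mem_divisors.2 ⟨hx, by norm_num⟩) y (Nat.mem_divisors.2 ⟨hy, by norm_num⟩) z
      (Nat.mem_divisors.2 ⟨hz, by norm_num⟩) (e ▸ hlt) (e ▸ h351) (e ▸ h715) ?_
    rw [← e, hdiv, hcard, ← hμ] at *
    push_cast at hq ⊢
    have hd0 : (0 : ℤ) < (693 - (μ : ℤ)) ^ 2 + 4 * (3510 - (μ : ℤ)) := by
      have : (μ : ℤ) < 3510 := by exact_mod_cast hlt
      nlinarith
    have hq' : (((M : ℤ) + 3510) * (693 - (μ : ℤ)) + 7020) ^ 2 =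
        ((693 - (μ : ℤ)) ^ 2 + 4 * (3510 - (μ : ℤ))) * q ^ 2 := by
      linear_combination hq
    rw [hq']
    refine ⟨Int.mul_emod_right _ _, ?_⟩
    rw [Int.mul_ediv_cancel_left _ hd0.ne', Int.natAbs_pow]
    exact ⟨q.natAbs, sq _⟩
  obtain ⟨c₀, hc₀, hdc₀⟩ := exists_not_commute hcls hR.two hd
  refine ⟨T, (key hd hc₀ hdc₀).2, fun p hp x hx h => (key hp hx h).1, by norm_num, by norm_num,
    fun a ha c hc e he hac hea hec hed => ?_⟩
  have h27 := T.plane_const ha hc hac (key ha hc hac).1 (t₀ := 27) (by rw [(key ha hc hac).2]; norm_num)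
    (by rw [(key ha hc hac).2]; norm_num) he hea hec hed
  obtain ⟨f, hf⟩ := Finset.card_pos.1 (show 0 < ((mem' D).filter fun x => Commute x a ∧ Commute x c ∧ Commute x e).card
    by omega)
  simp only [Finset.mem_filter, mem_mem'] at hf
  exact ⟨f, hf⟩

/-- A member is a product of six commuting neighbours. -/
theorem m23_six [Finite G] {d : G} (hd : d ∈ D) (hcls : IsThreeTranspositionClass D) (hT : TwinFree D)
    (hQ : M22 (descSet D d)) {N k l l' m m' m'' : ℕ} (hF : Full D N k l l' m m' m'') :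
    ∃ bs : List G, bs.Nodup ∧ bs.length = 6 ∧ (∀ x ∈ bs, x ∈ perp D d) ∧
      (∀ x ∈ bs, ∀ y ∈ bs, Commute x y) ∧ bs.prod = d := by
  obtain ⟨-, a, ha, -⟩ := hQ.type
  obtain ⟨b, hb⟩ := Set.nonempty_of_ncard_ne_zero (s := perp (descSet D d) a) (by rw [hQ.ncard_perp ha]; norm_num)
  have h181 := hQ.ncard_one ha hb
  obtain ⟨c, hc, hcb⟩ := Set.exists_ne_of_one_lt_ncard (s := {y | y ∈ perp (descSet D d) a ∧ Commute y b})
    (by omega) b
  obtain ⟨p, q, r, hnd, hcomm, hmem, hprod, -⟩ := m22_hexad hQ.cls hQ.prim hQ.twin hQ.type ha hb.1 hc.1.1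
    hb.2.1.symm hc.1.2.1.symm hcb.symm hb.2.2 hc.1.2.2 hc.2.symm
  obtain ⟨l, hln, hlen, hlm, hlc, hlK, hlall⟩ := lift_relation hcls hT hd hnd hmem hcomm hprod
  refine ⟨l, hln, by simpa using hlen, hlm, hlc, (hF.eq_one_or_self hd (closure_perp_commute hlK).symm hlall).resolve_left ?_⟩
  exact noRel_succ hcls hT hd (m22_five hQ.cls hQ.twin hQ.type) l (by simpa using hlen) hln
    (fun x hx => (hlm x hx).1) hlc

/-- Everything about type M(23). -/
structure M23 (D : Set G) : Prop where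
  solid : Solid D 31671 3510 693 180 351 126 45
  descended : ∃ d ∈ D, M22 (descSet D d)
  six : ∀ p ∈ D, ∃ bs : List G, bs.Nodup ∧ bs.length = 6 ∧ (∀ x ∈ bs, x ∈ perp D p) ∧
    (∀ x ∈ bs, ∀ y ∈ bs, Commute x y) ∧ bs.prod = p

theorem M23.mk' [Finite G] (hD : IsThreeTranspositionGroup D) (hprim : IsPrimitiveUnderConj D)
    (ht : IsOfTypeM23 G D) : M23 D := by
  obtain ⟨d, hd, hcls, hT, hR, hZ, hQ⟩ := m23_desc hD hprim ht
  have hF := m23_full hd hcls hT hR hZ hQ
  obtain ⟨bs, hbn, hlen, hbs, hbc, hprod⟩ := m23_six hd hcls hT hQ hF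
  have hdK : bs.prod ∈ closure (perp D d) := list_prod_mem fun x hx => Subgroup.subset_closure (hbs x hx)
  rw [hprod] at hdK
  refine ⟨⟨hF, self_mem_all hcls hd hdK,
    stab_of_desc hcls hT hd fun q hq => hQ.centralizer_eq hq⟩, ⟨d, hd, hQ⟩, fun p hp => ?_⟩
  obtain ⟨g, rfl⟩ := exists_conj hcls hd hp
  set f : G →* G := (MulAut.conj g).toMonoidHom
  refine ⟨bs.map f, hbn.map (MulAut.conj g).injective, by simpa using hlen, fun x hx => ?_, fun x hx y hy => ?_, by rw [← map_list_prod, hprod]; rfl⟩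
  · obtain ⟨u, hu, rfl⟩ := List.mem_map.1 hx
    rw [← conj_image_perp hcls g d]
    exact ⟨u, hbs u hu, rfl⟩
  · obtain ⟨u, hu, rfl⟩ := List.mem_map.1 hx
    obtain ⟨v, hv, rfl⟩ := List.mem_map.1 hy
    exact (hbc u hu v hv).map f

namespace M23

variable [Finite G] (h : M23 D)
include h

theorem cls : IsThreeTranspositionClass D := h.solid.full.cls

theorem desc_facts {p : G} (hp : p ∈ D) :
    Nat.card (↥(closure (perp D p)) ⧸ center ↥(closure (perp D p))) = 3510 * 18393661440 ∧
      IsSimpleGroup (↥(closure (perp D p)) ⧸ center ↥(closure (perp D p))) ∧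
      commutator (↥(closure (perp D p)) ⧸ center ↥(closure (perp D p))) = ⊤ := by
  obtain ⟨d, hd, hQ⟩ := h.descended
  obtain ⟨g, rfl⟩ := exists_conj h.cls hd hp
  set i : ↥(closure (perp D d)) ≃* ↥(closure (perp D (g * d * g⁻¹))) :=
    ((MulAut.conj g).subgroupMap (closure (perp D d))).trans (MulEquiv.subgroupCongr (map_conj_closure_perp h.cls g d))
  have hc : (center ↥(closure (perp D d))).map i.toMonoidHom = center ↥(closure (perp D (g * d * g⁻¹))) := by
    ext y
    obtain ⟨x, rfl⟩ := i.surjective y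
    constructor
    · rintro ⟨z, hz, hzx⟩
      obtain rfl : z = x := i.injective hzx
      refine mem_center_iff.2 fun w => ?_
      obtain ⟨w, rfl⟩ := i.surjective w
      show i w * i z = i z * i w
      rw [← map_mul, ← map_mul, mem_center_iff.1 hz w]
    · intro hx
      refine ⟨x, mem_center_iff.2 fun w => i.injective ?_, rfl⟩
      rw [map_mul, map_mul]
      exact mem_center_iff.1 hx (i w)
  set j := QuotientGroup.congr (center ↥(closure (perp D d))) (center ↥(closure (perp D (g * d * g⁻¹)))) i hc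
  obtain ⟨-, a, ha, -⟩ := hQ.type
  have hs := ((Cfsg.Agent.S5361.result hQ.cls hQ.center_eq hQ.exists_pair.pair).1).2 hQ.prim
  rw [hQ.commutator_eq_top] at hs
  haveI := hs
  have hsimp : IsSimpleGroup (↥(closure (perp D d)) ⧸ center ↥(closure (perp D d))) := by
    haveI := hs.toNontrivial
    haveI : Nontrivial (↥(closure (perp D d)) ⧸ center ↥(closure (perp D d))) :=
      Subgroup.topEquiv.symm.toEquiv.nontrivial
    exact IsSimpleGroup.isSimpleGroup_of_surjective
      (Subgroup.topEquiv (G := ↥(closure (perp D d)) ⧸ center ↥(closure (perp D d)))).toMonoidHom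
      Subgroup.topEquiv.surjective
  refine ⟨(Nat.card_congr j.symm.toEquiv).trans (hQ.card_group ha), ?_, ?_⟩
  · haveI := hsimp
    haveI := hsimp.toNontrivial
    haveI : Nontrivial (↥(closure (perp D (g * d * g⁻¹))) ⧸ center ↥(closure (perp D (g * d * g⁻¹)))) :=
      j.symm.toEquiv.nontrivial
    exact IsSimpleGroup.isSimpleGroup_of_surjective j.toMonoidHom j.surjective
  · rw [← map_top_of_surjective j.toMonoidHom j.surjective, ← hQ.commutator_eq_top, _root_.commutator_def,
      _root_.commutator_def, map_commutator, map_top_of_surjective j.toMonoidHom j.surjective]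

theorem commutator_closure_perp {a : G} (ha : a ∈ D) : commutator ↥(closure (perp D a)) = ⊤ := by
  obtain ⟨bs, -, hlen, hm, -, hprod⟩ := h.six a ha
  exact perfect_closure_perp h.solid.full.tower.rich ha hm (hlen ▸ ⟨3, rfl⟩) hprod (h.desc_facts ha).2.2
    (h.solid.center_closure_perp ha).le

theorem quasisimple {a : G} (ha : a ∈ D) : IsQuasisimple ↥(closure (perp D a)) :=
  ⟨Group.isPerfect_def.2 (h.commutator_closure_perp ha), (h.desc_facts ha).2.1⟩

theorem commutator_eq_top : commutator G = ⊤ := by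
  rw [eq_top_iff, ← h.cls.2.2, closure_le]
  intro a ha
  have := Subgroup.mem_map_of_mem (closure (perp D a)).subtype
    (show (⟨a, h.solid.self_mem a ha⟩ : ↥(closure (perp D a))) ∈ commutator _ from
      h.commutator_closure_perp ha ▸ mem_top _)
  rw [_root_.commutator_def, map_commutator] at this
  rw [_root_.commutator_def]
  exact commutator_mono le_top le_top this

theorem isSimple : IsSimpleGroup G := by
  have T := h.solid.full.tower
  have hs := ((Cfsg.Agent.S5361.result h.cls T.center_eq T.rich.pair).1).2 T.rich.prim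
  rw [h.commutator_eq_top] at hs
  haveI := hs
  haveI := hs.toNontrivial
  haveI : Nontrivial G := Subgroup.topEquiv.symm.toEquiv.nontrivial
  exact IsSimpleGroup.isSimpleGroup_of_surjective (Subgroup.topEquiv (G := G)).toMonoidHom Subgroup.topEquiv.surjective

theorem card_group : Nat.card G = 31671 * (3510 * 18393661440 * 2) := by
  obtain ⟨d, hd, -⟩ := h.descended
  rw [h.solid.card_group hd, (h.desc_facts hd).1]

theorem width : Cfsg.commutingWidth D = 23 := by
  obtain ⟨d, hd, hQ⟩ := h.descended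
  obtain ⟨-, a, ha, -⟩ := hQ.type
  exact width_of_desc h.cls h.solid.full.tower.twin hd (hQ.width ha)

end M23

end Cfsg.Lib.ThreeTr
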