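import Cfsg.Agent.ThreeTransposition.M23Count.M23
import Cfsg.Agent.ThreeTransposition.M22Count.Involutions
import Cfsg.Agent.ThreeTransposition.M24Count.M24

/-!
Involutions in towers of classes of 3-transpositions: products of commuting members, seen in the class descended at
a member; the three classes of involutions of type M(23).
-/

set_option autoImplicit false
set_option linter.unusedSectionVars false
set_option linter.style.haveILetI false

namespace Cfsg.Lib.ThreeTr

open Cfsg Subgroup

attribute [local instance] _root_.Classical.propDecidable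

universe u

variable {G : Type u} [Group G] {D : Set G}

/-- Distinct pairwise commuting members. -/
structure CList (D : Set G) (l : List G) : Prop where
  nodup : l.Nodup
  mem : ∀ a ∈ l, a ∈ D
  comm : ∀ a ∈ l, ∀ b ∈ l, Commute a b

/-- Every involution is a product of at most `n` distinct commuting members. -/
def InvForm (D : Set G) (n : ℕ) : Prop :=
  ∀ x : G, orderOf x = 2 → ∃ l : List G, CList D l ∧ 1 ≤ l.length ∧ l.length ≤ n ∧ l.prod = x

/-- Lists of at most `n` distinct commuting members of one length are conjugate. -/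
def ListTrans (D : Set G) (n : ℕ) : Prop :=
  ∀ l l' : List G, CList D l → CList D l' → l.length = l'.length → l.length ≤ n →
    ∃ g : G, l' = l.map fun a => g * a * g⁻¹

theorem CList.of_cons {a : G} {l : List G} (h : CList D (a :: l)) : CList D l ∧ ∀ x ∈ l, x ∈ perp D a :=
  ⟨⟨(List.nodup_cons.1 h.nodup).2, fun x hx => h.mem x (by simp [hx]),
    fun x hx y hy => h.comm x (by simp [hx]) y (by simp [hy])⟩,
    fun x hx => ⟨h.mem x (by simp [hx]), fun e => (List.nodup_cons.1 h.nodup).1 (e ▸ hx),
      h.comm a (by simp) x (by simp [hx])⟩⟩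

theorem CList.cons {a : G} {l : List G} (ha : a ∈ D) (h : CList D l) (hp : ∀ x ∈ l, x ∈ perp D a) :
    CList D (a :: l) := by
  refine ⟨List.nodup_cons.2 ⟨fun hm => (hp a hm).2.1 rfl, h.nodup⟩, fun x hx => ?_, fun x hx y hy => ?_⟩
  · rcases List.mem_cons.1 hx with rfl | hx
    exacts [ha, h.mem x hx]
  · rcases List.mem_cons.1 hx with e | e <;> rcases List.mem_cons.1 hy with e' | e'
    · rw [e, e']
    · rw [e]; exact (hp y e').2.2
    · rw [e']; exact (hp x e).2.2.symm
    · exact h.comm x e y e'

theorem CList.map_conj (hcls : IsThreeTranspositionClass D) {l : List G} (h : CList D l) (g : G) :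
    CList D (l.map fun a => g * a * g⁻¹) := by
  refine ⟨h.nodup.map (fun a b e => mul_left_cancel (mul_right_cancel e)), fun x hx => ?_, fun x hx y hy => ?_⟩
  · obtain ⟨a, ha, rfl⟩ := List.mem_map.1 hx
    exact conj_mem hcls g (h.mem a ha)
  · obtain ⟨a, ha, rfl⟩ := List.mem_map.1 hx
    obtain ⟨b, hb, rfl⟩ := List.mem_map.1 hy
    exact (conj_commute_iff g a b).2 (h.comm a ha b hb)

theorem conj_list_prod (g : G) (l : List G) : (l.map fun a => g * a * g⁻¹).prod = g * l.prod * g⁻¹ :=
  (map_list_prod (MulAut.conj g).toMonoidHom l).symm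

theorem CList.mul_self (hE : IsThreeTranspositionSet D) {l : List G} (h : CList D l) : l.prod * l.prod = 1 := by
  have : ∀ (m : List G), (∀ a ∈ m, a * a = 1) → (∀ a ∈ m, ∀ b ∈ m, Commute a b) → m.prod * m.prod = 1 := by
    intro m
    induction m with
    | nil => intro _ _; simp
    | cons a t ih =>
      intro h2 hc
      have hl := ih (fun b hb => h2 b (by simp [hb])) fun b hb c hc' => hc b (by simp [hb]) c (by simp [hc'])
      have hat : Commute a t.prod := Commute.list_prod_right _ _ fun b hb => hc a (by simp) b (by simp [hb])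
      rw [List.prod_cons, hat.symm.mul_mul_mul_comm a t.prod, h2 a (by simp), hl, one_mul]
  exact this l (fun a ha => sq_eq_one hE (h.mem a ha)) h.comm

section Descend

variable [Finite G] (hcls : IsThreeTranspositionClass D) (hT : TwinFree D) {d : G} (hd : d ∈ D)
include hcls hT hd

/-- A list of neighbours gives a list of descended members. -/
theorem clist_desc {l : List ↥(closure (perp D d))} (hl : ∀ x ∈ l, (x : G) ∈ perp D d)
    (h : CList D (l.map Subtype.val)) :
    CList (descSet D d) (l.map (QuotientGroup.mk' (center ↥(closure (perp D d))))) := by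
  refine ⟨(List.Nodup.of_map Subtype.val h.nodup).map_on fun x hx y hy e =>
    Subtype.ext (desc_mk_inj hcls hT hd (hl x hx) (hl y hy) e), fun q hq => ?_, fun q hq r hr => ?_⟩
  · obtain ⟨x, hx, rfl⟩ := List.mem_map.1 hq
    exact ⟨x, hl x hx, rfl⟩
  · obtain ⟨x, hx, rfl⟩ := List.mem_map.1 hq
    obtain ⟨y, hy, rfl⟩ := List.mem_map.1 hr
    exact (desc_commute_iff hcls hT hd (hl x hx) (hl y hy)).2
      (h.comm _ (List.mem_map_of_mem hx) _ (List.mem_map_of_mem hy))

/-- A list of descended members lifts to neighbours. -/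
theorem clist_lift {s : List (↥(closure (perp D d)) ⧸ center ↥(closure (perp D d)))} (hs : CList (descSet D d) s) :
    ∃ l : List ↥(closure (perp D d)), (∀ x ∈ l, (x : G) ∈ perp D d) ∧ CList D (l.map Subtype.val) ∧
      l.map (QuotientGroup.mk' (center ↥(closure (perp D d)))) = s := by
  choose f hf hfπ using hs.mem
  set l : List ↥(closure (perp D d)) := s.attach.map fun q => f q.1 q.2 with hl
  have hπ : l.map (QuotientGroup.mk' (center ↥(closure (perp D d)))) = s := by
    rw [hl, List.map_map]
    conv_rhs => rw [← List.attach_map_subtype_val s]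
    exact List.map_congr_left fun q _ => hfπ q.1 q.2
  have hm : ∀ x ∈ l, (x : G) ∈ perp D d := fun x hx => by
    obtain ⟨q, -, rfl⟩ := List.mem_map.1 hx
    exact hf q.1 q.2
  refine ⟨l, hm, ⟨((hπ.symm ▸ hs.nodup : (l.map _).Nodup).of_map _).map Subtype.val_injective, fun x hx => ?_,
    fun x hx y hy => ?_⟩, hπ⟩
  · obtain ⟨a, ha, rfl⟩ := List.mem_map.1 hx
    exact (hm a ha).1
  · obtain ⟨a, ha, rfl⟩ := List.mem_map.1 hx
    obtain ⟨b, hb, rfl⟩ := List.mem_map.1 hy
    exact (desc_commute_iff hcls hT hd (hm a ha) (hm b hb)).1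
      (hs.comm _ (hπ ▸ List.mem_map_of_mem ha) _ (hπ ▸ List.mem_map_of_mem hb))

/-- Transitivity on lists climbs one level. -/
theorem ListTrans.succ {n : ℕ} (h : ListTrans (descSet D d) n) : ListTrans D (n + 1) := by
  have base : ∀ t t' : List G, CList D (d :: t) → CList D (d :: t') → t.length = t'.length → t.length ≤ n →
      ∃ g : G, d :: t' = (d :: t).map fun a => g * a * g⁻¹ := by
    intro t t' ht ht' hlen hn
    obtain ⟨hc, hp⟩ := ht.of_cons
    obtain ⟨hc', hp'⟩ := ht'.of_cons
    set l := t.pmap (fun a ha => (⟨a, subset_closure ha⟩ : ↥(closure (perp D d)))) hp with hldef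
    set l' := t'.pmap (fun a ha => (⟨a, subset_closure ha⟩ : ↥(closure (perp D d)))) hp' with hl'def
    have hv : l.map Subtype.val = t := by simp [l, List.map_pmap]
    have hv' : l'.map Subtype.val = t' := by simp [l', List.map_pmap]
    have hm : ∀ x ∈ l, (x : G) ∈ perp D d := fun x hx => hp _ (hv ▸ List.mem_map_of_mem hx)
    have hm' : ∀ x ∈ l', (x : G) ∈ perp D d := fun x hx => hp' _ (hv' ▸ List.mem_map_of_mem hx)
    obtain ⟨γ, hγ⟩ := h _ _ (clist_desc hcls hT hd hm (hv.symm ▸ hc)) (clist_desc hcls hT hd hm' (hv'.symm ▸ hc'))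
      (by simp [l, l', hlen]) (by simp [l]; exact hn)
    obtain ⟨g, rfl⟩ := QuotientGroup.mk_surjective γ
    rw [List.map_map] at hγ
    refine ⟨g, ?_⟩
    have hgd : (g : G) * d * (g : G)⁻¹ = d := by
      rw [(closure_perp_commute g.2).eq, mul_inv_cancel_right]
    rw [List.map_cons, hgd]
    congr 1
    rw [← hv, ← hv', List.map_map]
    have hcj : ∀ x ∈ l, ((g * x * g⁻¹ : ↥(closure (perp D d))) : G) ∈ perp D d := fun x hx => by
      simpa using conj_mem_perp (fun w _ hw => conj_mem hcls w hw) g.2 (hm x hx)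
    have hll : l' = l.map fun x => g * x * g⁻¹ := by
      refine List.ext_getElem (by simp [l, l', hlen]) fun i h1 h2 => ?_
      have h2' : i < l.length := by simpa using h2
      have e := List.getElem_of_eq hγ (i := i) (by simpa using h1)
      simp only [List.getElem_map, Function.comp_apply] at e ⊢
      refine Subtype.ext (desc_mk_inj hcls hT hd (hm' _ (List.getElem_mem h1)) (hcj _ (List.getElem_mem h2')) ?_)
      exact e
    rw [hll, List.map_map]
    exact List.map_congr_left fun x _ => by simp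
  intro l l' hl hl' hlen hn
  match l, l', hlen with
  | [], [], _ => exact ⟨1, rfl⟩
  | a :: t, a' :: t', hlen =>
    obtain ⟨u, hu⟩ := exists_conj hcls (hl.mem a (by simp)) hd
    obtain ⟨u', hu'⟩ := exists_conj hcls (hl'.mem a' (by simp)) hd
    have h1 := hl.map_conj hcls u
    have h2 := hl'.map_conj hcls u'
    rw [List.map_cons, hu] at h1
    rw [List.map_cons, hu'] at h2
    obtain ⟨g, hg⟩ := base _ _ h1 h2 (by simpa using hlen) (by simpa using hn)
    refine ⟨u'⁻¹ * g * u, ?_⟩
    have e : (a' :: t').map (fun b => u' * b * u'⁻¹) =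
        ((a :: t).map fun b => u * b * u⁻¹).map fun b => g * b * g⁻¹ := by
      rw [List.map_cons, List.map_cons, hu, hu']; exact hg
    have e2 := congrArg (List.map fun b => u'⁻¹ * b * u') e
    simp only [List.map_map] at e2
    rw [List.map_congr_left (g := id) (fun b _ => by simp [mul_assoc]), List.map_id] at e2
    rw [e2]
    exact List.map_congr_left fun b _ => by simp [mul_assoc]

/-- An involution centralising `d` is a product of at most one more commuting members than downstairs. -/
theorem form_in_centraliser {n : ℕ} {N k l l' m m' m'' : ℕ} (hF : Full D N k l l' m m' m'')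
    (hI : InvForm (descSet D d) n) {x : G} (hx : x ∈ closure (perp D d)) (hx2 : orderOf x = 2) :
    ∃ s : List G, CList D s ∧ 1 ≤ s.length ∧ s.length ≤ n + 1 ∧ s.prod = x := by
  set X : ↥(closure (perp D d)) := ⟨x, hx⟩
  have hx1 : x ≠ 1 := fun e => by rw [e, orderOf_one] at hx2; norm_num at hx2
  have one : CList D [d] := ⟨List.nodup_singleton d, by simp [hd], by simp⟩
  by_cases hc : X ∈ center ↥(closure (perp D d))
  · refine ⟨[d], one, by simp, by simp, ?_⟩
    rw [List.prod_singleton]
    exact ((hF.eq_one_or_self hd (closure_perp_commute hx).symm fun e he =>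
      congrArg Subtype.val (mem_center_iff.1 hc ⟨e, subset_closure he⟩)).resolve_left hx1).symm
  obtain ⟨q, hq, hq1, hqn, hqp⟩ := hI (QuotientGroup.mk X) (orderOf_eq_prime (p := 2) (by
    rw [← QuotientGroup.mk_pow, show X ^ 2 = 1 from Subtype.ext (by simpa [sq, X] using mul_self_of_orderOf_two hx2),
      QuotientGroup.mk_one]) fun e => hc ((QuotientGroup.eq_one_iff X).1 e))
  obtain ⟨ls, hm, hls, hπ⟩ := clist_lift hcls hT hd hq
  have hlen : ls.length = q.length := by rw [← hπ, List.length_map]
  have hcen : ls.prod⁻¹ * X ∈ center ↥(closure (perp D d)) := by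
    refine QuotientGroup.eq.1 ?_
    show QuotientGroup.mk' _ ls.prod = _
    rw [map_list_prod, hπ, hqp]
  have hp : ∀ w ∈ ls.map Subtype.val, w ∈ perp D d := fun w hw => by
    obtain ⟨v, hv, rfl⟩ := List.mem_map.1 hw
    exact hm v hv
  rcases hF.eq_one_or_self hd (closure_perp_commute (SetLike.coe_mem (ls.prod⁻¹ * X))).symm
      (fun e he => congrArg Subtype.val (mem_center_iff.1 hcen ⟨e, subset_closure he⟩)) with e | e
  · refine ⟨ls.map Subtype.val, hls, by simp; omega, by simp; omega, ?_⟩
    rw [coe_mul, coe_inv, SubmonoidClass.coe_list_prod] at e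
    exact inv_mul_eq_one.1 e
  · refine ⟨d :: ls.map Subtype.val, hls.cons hd hp, by simp, by simp; omega, ?_⟩
    rw [coe_mul, coe_inv, SubmonoidClass.coe_list_prod, inv_mul_eq_iff_eq_mul] at e
    have hcd : Commute d (ls.map Subtype.val).prod := Commute.list_prod_right _ _ fun w hw => (hp w hw).2.2
    rw [List.prod_cons, hcd.eq]
    exact e.symm

end Descend

theorem M22.invForm [Finite G] (h : M22 D) : InvForm D 3 := fun _ hx => by
  obtain ⟨l, hn, h1, h3, hD, hc, hp⟩ := h.involution_form hx
  exact ⟨l, ⟨hn, hD, hc⟩, h1, h3, hp⟩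

theorem M22.listTrans [Finite G] (h : M22 D) : ListTrans D 2 := by
  intro l l' hl hl' hlen h2
  match l, l', hlen, h2 with
  | [], [], _, _ => exact ⟨1, rfl⟩
  | [a], [a'], _, _ =>
    obtain ⟨g, hg⟩ := exists_conj h.cls (hl.mem a (by simp)) (hl'.mem a' (by simp))
    exact ⟨g, by simp [hg]⟩
  | [a, b], [a', b'], _, _ =>
    obtain ⟨g, rfl, rfl⟩ := h.pair_transitive (hl.mem a (by simp)) (hl.of_cons.2 b (by simp))
      (hl'.mem a' (by simp)) (hl'.of_cons.2 b' (by simp))
    exact ⟨g, rfl⟩

/-- An element of square one fixes a member when the members are odd in number. -/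
theorem exists_commute_member [Finite G] (hcls : IsThreeTranspositionClass D) (hodd : Odd D.ncard) {x : G}
    (hx : x * x = 1) : ∃ p ∈ D, Commute x p := by
  haveI : Fintype ↥D := Fintype.ofFinite _
  let σ : Equiv.Perm ↥D :=
    { toFun := fun p => ⟨x * p * x⁻¹, conj_mem hcls x p.2⟩
      invFun := fun p => ⟨x⁻¹ * p * x⁻¹⁻¹, conj_mem hcls x⁻¹ p.2⟩
      left_inv := fun p => Subtype.ext (by group)
      right_inv := fun p => Subtype.ext (by group) }
  have hσ : σ ^ 2 ^ 1 = 1 := Equiv.ext fun p => Subtype.ext (by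
    show x * (x * p * x⁻¹) * x⁻¹ = (p : G)
    calc x * (x * p * x⁻¹) * x⁻¹ = (x * x) * p * (x * x)⁻¹ := by group
      _ = (p : G) := by rw [hx]; simp)
  haveI : Fact (Nat.Prime 2) := ⟨Nat.prime_two⟩
  obtain ⟨p, hp⟩ := Equiv.Perm.exists_fixed_point_of_prime (by
    rw [← Nat.card_eq_fintype_card, Nat.card_coe_set_eq]
    exact fun e => Nat.not_even_iff_odd.2 hodd (even_iff_two_dvd.2 e)) hσ
  exact ⟨p, p.2, mul_inv_eq_iff_eq_mul.1 (congrArg Subtype.val hp)⟩

theorem ListTrans.isConj_prod {n : ℕ} (h : ListTrans D n) {l l' : List G} (hl : CList D l) (hl' : CList D l')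
    (hlen : l.length = l'.length) (hn : l.length ≤ n) : IsConj l.prod l'.prod := by
  obtain ⟨g, rfl⟩ := h l l' hl hl' hlen hn
  exact isConj_iff.2 ⟨g, (conj_list_prod g l).symm⟩

namespace Tower

variable [Finite G] {k l l' m' m'' : ℕ} (T : Tower D k l l' m' m'')
include T

/-- The number of members commuting with a product of at most three commuting members. -/
theorem count_list {s : List G} (hs : CList D s) (h1 : 1 ≤ s.length) (h3 : s.length ≤ 3) :
    ((mem' D).filter fun e => Commute e s.prod).card =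
      if s.length = 1 then k + 1 else if s.length = 2 then l + 2 else l' + 3 := by
  have hE := T.rich.cls.1
  match s, h1, h3 with
  | [a], _, _ => simpa using T.card_comm (hs.mem a (by simp))
  | [a, b], _, _ =>
    have ha := hs.mem a (by simp)
    have hb := hs.of_cons.2 b (by simp)
    have e : (mem' D).filter (fun e => Commute e [a, b].prod) = insert a ((nb D a).filter fun e => Commute e b) := by
      ext e
      simp only [List.prod_cons, List.prod_nil, mul_one, Finset.mem_filter, mem_mem', Finset.mem_insert, mem_nb]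
      constructor
      · rintro ⟨he, hep⟩
        obtain ⟨k1, k2⟩ := (commute_pair_iff hE ha hb.1 he hb.2.1.symm hb.2.2).1 hep
        by_cases e' : e = a
        · exact Or.inl e'
        · exact Or.inr ⟨⟨he, e', k1.symm⟩, k2⟩
      · rintro (rfl | ⟨he, heb⟩)
        · exact ⟨ha, (Commute.refl e).mul_right hb.2.2⟩
        · exact ⟨he.1, he.2.2.symm.mul_right heb⟩
    rw [e, Finset.card_insert_of_notMem (fun hh => (mem_nb.1 (Finset.mem_filter.1 hh).1).2.1 rfl), T.nb_one ha hb]
    rfl
  | [a, b, c], _, _ =>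
    have ha := hs.mem a (by simp)
    have hb := hs.of_cons.2 b (by simp)
    have hc := hs.of_cons.2 c (by simp)
    have hbc := hs.of_cons.1.of_cons.2 c (by simp)
    have e : (mem' D).filter (fun e => Commute e [a, b, c].prod) =
        insert a ((nb D a).filter fun e => Commute e b ∧ Commute e c) := by
      ext e
      simp only [List.prod_cons, List.prod_nil, mul_one, ← mul_assoc, Finset.mem_filter, mem_mem', Finset.mem_insert,
        mem_nb]
      constructor
      · rintro ⟨he, hep⟩
        obtain ⟨k1, k2, k3⟩ := (commute_triple_iff hE ha hb.1 hc.1 he hb.2.1.symm hc.2.1.symm hbc.2.1.symm hb.2.2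
          hc.2.2 hbc.2.2).1 hep
        by_cases e' : e = a
        · exact Or.inl e'
        · exact Or.inr ⟨⟨he, e', k1.symm⟩, k2, k3⟩
      · rintro (rfl | ⟨he, heb, hec⟩)
        · exact ⟨ha, ((Commute.refl e).mul_right hb.2.2).mul_right hc.2.2⟩
        · exact ⟨he.1, (he.2.2.symm.mul_right heb).mul_right hec⟩
    rw [e, Finset.card_insert_of_notMem (fun hh => (mem_nb.1 (Finset.mem_filter.1 hh).1).2.1 rfl),
      T.nb_two ha hb ⟨hc, hbc⟩]
    rfl

theorem length_unique (hkl : l + 1 < k) (hll : l' + 1 < l) {s s' : List G} (hs : CList D s) (hs' : CList D s')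
    (h1 : 1 ≤ s.length) (h3 : s.length ≤ 3) (h1' : 1 ≤ s'.length) (h3' : s'.length ≤ 3) (e : s.prod = s'.prod) :
    s.length = s'.length := by
  have c := T.count_list hs h1 h3
  rw [e, T.count_list hs' h1' h3'] at c
  split_ifs at c <;> omega

/-- Commuting lists of every length up to four. -/
theorem exists_clist {p : G} (hp : p ∈ D) (hk : k ≠ 0) (hl : l ≠ 0) (hl' : l' ≠ 0) {n : ℕ} (hn : n ≤ 4) :
    ∃ s : List G, CList D s ∧ s.length = n := by
  obtain ⟨x, hx⟩ := Set.nonempty_of_ncard_ne_zero (s := perp D p) (by rw [T.deg p hp]; exact hk)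
  obtain ⟨y, hy⟩ := Set.nonempty_of_ncard_ne_zero (s := perp D p ∩ perp D x) (by rw [T.adj p hp x hx]; exact hl)
  obtain ⟨z, hz⟩ := Set.nonempty_of_ncard_ne_zero (s := perp D p ∩ perp D x ∩ perp D y)
    (by rw [T.tri_adj p hp x hx y hy]; exact hl')
  have hz0 : CList D [z] := ⟨List.nodup_singleton z, by simp [hz.2.1], by simp⟩
  have hyz : CList D [y, z] := hz0.cons hy.1.1 (by simp [hz.2])
  have hxyz : CList D [x, y, z] := hyz.cons hx.1 (by simp [hy.2, hz.1.2])
  have h4 : CList D [p, x, y, z] := hxyz.cons hp (by simp [hx, hy.1, hz.1.1])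
  have hsub : ([p, x, y, z].take n).Sublist [p, x, y, z] := List.take_sublist n _
  exact ⟨[p, x, y, z].take n, ⟨h4.nodup.sublist hsub, fun a ha => h4.mem a (hsub.subset ha),
    fun a ha b hb => h4.comm a (hsub.subset ha) b (hsub.subset hb)⟩, by simp; omega⟩

end Tower

namespace M23

variable [Finite G] (h : M23 D)
include h

theorem twin : TwinFree D := h.solid.full.tower.twin

theorem listTrans : ListTrans D 3 := by
  obtain ⟨d, hd, hQ⟩ := h.descended
  exact ListTrans.succ h.cls h.twin hd hQ.listTrans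

theorem noRel_five : NoRel D 5 := by
  obtain ⟨d, hd, hQ⟩ := h.descended
  exact noRel_succ h.cls h.twin hd (four_noRel hQ.cls.1 hQ.twin)

/-- A member and three of its neighbours have the product of three other members. -/
theorem four_to_three_at {d : G} (hd : d ∈ D) (hQ : M22 (descSet D d)) {t : List G} (ht : CList D (d :: t))
    (h3 : t.length = 3) : ∃ s : List G, CList D s ∧ s.length = 3 ∧ s.prod = (d :: t).prod := by
  have hE := h.cls.1
  obtain ⟨hc, hp⟩ := ht.of_cons
  obtain ⟨x, y, z, rfl⟩ := List.length_eq_three.1 h3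
  obtain ⟨X, hX, hXv⟩ : ∃ X : ↥(closure (perp D d)), (X : G) ∈ perp D d ∧ (X : G) = x :=
    ⟨⟨x, subset_closure (hp x (by simp))⟩, hp x (by simp), rfl⟩
  obtain ⟨Y, hY, hYv⟩ : ∃ Y : ↥(closure (perp D d)), (Y : G) ∈ perp D d ∧ (Y : G) = y :=
    ⟨⟨y, subset_closure (hp y (by simp))⟩, hp y (by simp), rfl⟩
  obtain ⟨Z, hZ, hZv⟩ : ∃ Z : ↥(closure (perp D d)), (Z : G) ∈ perp D d ∧ (Z : G) = z :=
    ⟨⟨z, subset_closure (hp z (by simp))⟩, hp z (by simp), rfl⟩
  subst hXv hYv hZv
  have hq := clist_desc h.cls h.twin hd (l := [X, Y, Z]) (by simp [hX, hY, hZ]) (by simpa using hc)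
  simp only [List.map_cons, List.map_nil] at hq
  have hn := hq.nodup
  simp only [List.nodup_cons, List.mem_cons, List.not_mem_nil, or_false, not_or] at hn
  obtain ⟨P, Q, R, hnd, hcomm, hmem, hprod, -⟩ := m22_hexad hQ.cls hQ.prim hQ.twin hQ.type
    (hq.mem _ (List.mem_cons_self)) (hq.mem _ (List.mem_cons_of_mem _ List.mem_cons_self))
    (hq.mem _ (List.mem_cons_of_mem _ (List.mem_cons_of_mem _ List.mem_cons_self))) hn.1.1 hn.1.2 hn.2.1
    (hq.comm _ (by simp) _ (by simp)) (hq.comm _ (by simp) _ (by simp)) (hq.comm _ (by simp) _ (by simp))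
  obtain ⟨L, hLm, hL, hLπ⟩ := clist_lift h.cls h.twin hd ⟨hnd, hmem, hcomm⟩
  simp only [List.map_eq_cons_iff, List.map_eq_nil_iff] at hLπ
  obtain ⟨X', _, rfl, eX, Y', _, rfl, eY, Z', _, rfl, eZ, p, _, rfl, eP, q, _, rfl, eQ, r, _, rfl, eR, rfl⟩ := hLπ
  obtain rfl : X' = X := Subtype.ext (desc_mk_inj h.cls h.twin hd (hLm X' (by simp)) hX eX)
  obtain rfl : Y' = Y := Subtype.ext (desc_mk_inj h.cls h.twin hd (hLm Y' (by simp)) hY eY)
  obtain rfl : Z' = Z := Subtype.ext (desc_mk_inj h.cls h.twin hd (hLm Z' (by simp)) hZ eZ)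
  have hcen : [X', Y', Z', p, q, r].prod ∈ center ↥(closure (perp D d)) := by
    rw [← QuotientGroup.eq_one_iff]
    show QuotientGroup.mk' _ [X', Y', Z', p, q, r].prod = 1
    rw [map_list_prod, ← hprod]
    simp only [List.map_cons, List.map_nil, eP, eQ, eR]
  have hs : CList D [(p : G), (q : G), (r : G)] :=
    ⟨hL.nodup.sublist (List.sublist_append_right [(X' : G), (Y' : G), (Z' : G)] _), fun w hw => hL.mem w (by simp at hw ⊢; tauto),
      fun w hw v hv => hL.comm w (by simp at hw ⊢; tauto) v (by simp at hv ⊢; tauto)⟩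
  refine ⟨[(p : G), (q : G), (r : G)], hs, rfl, ?_⟩
  rcases h.solid.full.eq_one_or_self hd (closure_perp_commute (SetLike.coe_mem [X', Y', Z', p, q, r].prod)).symm
      (fun e he => congrArg Subtype.val (mem_center_iff.1 hcen ⟨e, subset_closure he⟩)) with e | e
  · exact absurd (by rw [← e, SubmonoidClass.coe_list_prod])
      (h.noRel_six _ (by simp) hL.nodup hL.mem hL.comm)
  · have e' : [(X' : G), (Y' : G), (Z' : G)].prod * [(p : G), (q : G), (r : G)].prod = d := by
      rw [← List.prod_append]
      rw [SubmonoidClass.coe_list_prod] at e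
      exact e
    have hcd : Commute d [(X' : G), (Y' : G), (Z' : G)].prod :=
      Commute.list_prod_right _ _ fun w hw => (hp w hw).2.2
    rw [List.prod_cons (a := d), hcd.eq]
    calc [(p : G), (q : G), (r : G)].prod
        = [(X' : G), (Y' : G), (Z' : G)].prod *
          ([(X' : G), (Y' : G), (Z' : G)].prod * [(p : G), (q : G), (r : G)].prod) := by
          rw [← mul_assoc, hc.mul_self hE, one_mul]
      _ = [(X' : G), (Y' : G), (Z' : G)].prod * d := by rw [e']

/-- Four commuting members have the product of three others. -/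
theorem four_to_three {l : List G} (hl : CList D l) (h4 : l.length = 4) :
    ∃ s : List G, CList D s ∧ s.length = 3 ∧ s.prod = l.prod := by
  obtain ⟨d, hd, hQ⟩ := h.descended
  obtain ⟨a, t, rfl⟩ := List.exists_cons_of_length_pos (l := l) (by omega)
  obtain ⟨u, hu⟩ := exists_conj h.cls (hl.mem a (by simp)) hd
  have h1 := hl.map_conj h.cls u
  rw [List.map_cons, hu] at h1
  obtain ⟨s, hs, hs3, hsp⟩ := h.four_to_three_at hd hQ h1 (by simpa using h4)
  refine ⟨s.map fun x => u⁻¹ * x * u⁻¹⁻¹, hs.map_conj h.cls u⁻¹, by simpa using hs3, ?_⟩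
  rw [conj_list_prod, hsp, ← hu, ← List.map_cons (f := fun x => u * x * u⁻¹), conj_list_prod]
  group

/-- Every involution is a product of at most three commuting members. -/
theorem invForm : InvForm D 3 := by
  intro x hx
  obtain ⟨d, hd, hQ⟩ := h.descended
  obtain ⟨p, hp, hxp⟩ := exists_commute_member h.cls (by rw [h.solid.full.card]; decide) (mul_self_of_orderOf_two hx)
  obtain ⟨g, hg⟩ := exists_conj h.cls hp hd
  have hgx : g * x * g⁻¹ ∈ closure (perp D d) := by
    rw [← h.solid.centralizer_eq hd]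
    refine mem_centralizer_singleton_iff.2 ?_
    rw [← hg]
    exact ((conj_commute_iff g x p).2 hxp).eq
  obtain ⟨s, hs, h1, h4, hsp⟩ := form_in_centraliser h.cls h.twin hd h.solid.full hQ.invForm hgx (by
    rw [← hx]; exact orderOf_injective (MulAut.conj g).toMonoidHom (MulAut.conj g).injective x)
  obtain ⟨s', hs', h1', h3', hsp'⟩ : ∃ s' : List G, CList D s' ∧ 1 ≤ s'.length ∧ s'.length ≤ 3 ∧ s'.prod = s.prod := by
    by_cases e : s.length = 4
    · obtain ⟨s', hs', h3, hp'⟩ := h.four_to_three hs e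
      exact ⟨s', hs', by omega, by omega, hp'⟩
    · exact ⟨s, hs, h1, by omega, rfl⟩
  refine ⟨s'.map fun a => g⁻¹ * a * g⁻¹⁻¹, hs'.map_conj h.cls g⁻¹, by simpa using h1', by simpa using h3', ?_⟩
  rw [conj_list_prod, hsp', hsp]
  group

theorem length_unique {l l' : List G} (hl : CList D l) (hl' : CList D l') (h1 : 1 ≤ l.length) (h3 : l.length ≤ 3)
    (h1' : 1 ≤ l'.length) (h3' : l'.length ≤ 3) (e : l.prod = l'.prod) : l.length = l'.length :=
  h.solid.full.tower.length_unique (by norm_num) (by norm_num) hl hl' h1 h3 h1' h3' e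

theorem exists_prod (n : ℕ) (h1 : 1 ≤ n) (h3 : n ≤ 3) :
    ∃ l : List G, CList D l ∧ l.length = n ∧ orderOf l.prod = 2 := by
  have T := h.solid.full.tower
  obtain ⟨d, hd, -⟩ := h.descended
  obtain ⟨l, hl, hlen⟩ := T.exists_clist hd (by norm_num) (by norm_num) (by norm_num) (n := n) (by omega)
  refine ⟨l, hl, hlen, orderOf_eq_prime (p := 2) (by rw [sq, hl.mul_self h.cls.1]) fun e => ?_⟩
  have := T.count_list hl (by omega) (by omega)
  rw [e, Finset.filter_true_of_mem (fun y _ => Commute.one_right y),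
    show (mem' D).card = 31671 by rw [← h.solid.full.card, Set.ncard_eq_toFinset_card D (Set.toFinite _)]; rfl] at this
  split_ifs at this <;> omega

end M23

end Cfsg.Lib.ThreeTr
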