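import Cfsg.Agent.ThreeTransposition.CoreThree.Srg

/-!
Strongly regular graphs: the trace of an eigenspace projection gives the condition on the parameters.
-/

set_option autoImplicit false
set_option linter.style.haveILetI false

namespace Cfsg.Lib.ThreeTr

open Matrix CoreThree

/-- For parameters `(v, k, l, μ)` the number `(v - 1)(l - μ) + 2k` squared is the discriminant times a square. -/
theorem srg_trace {α : Type*} [Fintype α] [Nonempty α] (adj : α → α → Prop)
    (hsymm : ∀ i j, adj i j → adj j i) (hirr : ∀ i, ¬ adj i i) (k l μ : ℕ)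
    (hk : ∀ i, {j | adj i j}.ncard = k)
    (hl : ∀ i j, adj i j → {x | adj i x ∧ adj x j}.ncard = l)
    (hμ : ∀ i j, i ≠ j → ¬ adj i j → {x | adj i x ∧ adj x j}.ncard = μ)
    (hμk : μ < k) :
    ∃ z : ℤ, (((Fintype.card α : ℤ) - 1) * ((l : ℤ) - μ) + 2 * k) ^ 2 =
      (((l : ℤ) - μ) ^ 2 + 4 * ((k : ℤ) - μ)) * z ^ 2 := by
  classical
  set A : Matrix α α ℝ := Matrix.of fun i j => if adj i j then 1 else 0 with hA
  set J : Matrix α α ℝ := Matrix.of fun _ _ => 1 with hJ
  have hrow : ∀ i, ∑ j, (if adj i j then (1 : ℝ) else 0) = k := by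
    intro i
    rw [Finset.sum_boole, ← hk i, Set.ncard_eq_toFinset_card', Set.toFinset_ofPred]
  have hcol : ∀ j, ∑ i, (if adj i j then (1 : ℝ) else 0) = k := by
    intro j
    rw [← hrow j]
    exact Finset.sum_congr rfl fun i _ => if_congr ⟨hsymm i j, hsymm j i⟩ rfl rfl
  have hAJ : A * J = (k : ℝ) • J := by
    ext i j
    simp only [hA, hJ, Matrix.mul_apply, Matrix.of_apply, mul_one, Matrix.smul_apply, smul_eq_mul]
    exact hrow i
  have hJA : J * A = (k : ℝ) • J := by
    ext i j
    simp only [hA, hJ, Matrix.mul_apply, Matrix.of_apply, one_mul, Matrix.smul_apply, smul_eq_mul, mul_one]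
    exact hcol j
  have hAA : A * A = (k : ℝ) • 1 + (l : ℝ) • A + (μ : ℝ) • (J - 1 - A) := by
    ext i j
    have e : (A * A) i j = ({x | adj i x ∧ adj x j}.ncard : ℝ) := by
      simp only [hA, Matrix.mul_apply, Matrix.of_apply, mul_boole, ← ite_and]
      rw [Finset.sum_boole, Set.ncard_eq_toFinset_card', Set.toFinset_ofPred]
      congr 2
      exact Finset.filter_congr fun x _ => and_comm
    rw [e]
    simp only [hA, hJ, Matrix.add_apply, Matrix.sub_apply, Matrix.smul_apply, Matrix.of_apply, Matrix.one_apply,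
      smul_eq_mul]
    by_cases hij : i = j
    · subst hij
      rw [if_pos rfl, if_neg (hirr i)]
      have : {x | adj i x ∧ adj x i} = {x | adj i x} := Set.ext fun x => ⟨fun h => h.1, fun h => ⟨h, hsymm i x h⟩⟩
      rw [this, hk i]; ring
    · rw [if_neg hij]
      by_cases ha : adj i j
      · rw [if_pos ha, hl i j ha]; ring
      · rw [if_neg ha, hμ i j hij ha]; ring
  set v : ℝ := (Fintype.card α : ℝ) with hv
  have hv0 : v ≠ 0 := by positivity
  have hJJ : J * J = v • J := by
    ext i j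
    simp [hJ, hv, Matrix.mul_apply]
  -- counting the paths of length two from one vertex
  have hrel : (k : ℝ) * k = k + l * k + μ * (v - 1 - k) := by
    obtain ⟨i⟩ := ‹Nonempty α›
    have h1 := congrArg (fun M : Matrix α α ℝ => (M * J) i i) hAA
    simp only [Matrix.mul_assoc, hAJ, Matrix.mul_smul, Matrix.add_mul, Matrix.smul_mul, Matrix.sub_mul,
      Matrix.one_mul, hJJ, Matrix.add_apply, Matrix.sub_apply, Matrix.smul_apply, smul_eq_mul] at h1
    simp only [hJ, Matrix.of_apply, mul_one] at h1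
    linarith
  set d : ℤ := ((l : ℤ) - μ) ^ 2 + 4 * ((k : ℤ) - μ) with hd
  have hdR : (d : ℝ) = ((l : ℝ) - μ) ^ 2 + 4 * (k - μ) := by rw [hd]; push_cast; ring
  have hd0 : (0 : ℝ) < d := by
    have : (μ : ℝ) < k := by exact_mod_cast hμk
    rw [hdR]; nlinarith
  set r : ℝ := Real.sqrt d with hr
  have hr0 : r ≠ 0 := (Real.sqrt_pos.2 hd0).ne'
  have hrr : r * r = d := Real.mul_self_sqrt hd0.le
  set c : ℝ := 2 * k + μ - l with hc
  set E : Matrix α α ℝ := 1 - v⁻¹ • J with hE
  set M : Matrix α α ℝ := (2 : ℝ) • A + ((μ : ℝ) - l) • 1 - (c / v) • J with hM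
  have hMJ : M * J = 0 := by
    simp only [hM, Matrix.sub_mul, Matrix.add_mul, Matrix.smul_mul, Matrix.one_mul, hAJ, hJJ, smul_smul,
      ← sub_smul, ← add_smul]
    rw [div_mul_cancel₀ _ hv0, hc, show (2 : ℝ) * k + ((μ : ℝ) - l) - (2 * k + μ - l) = 0 by ring, zero_smul]
  have hJM : J * M = 0 := by
    simp only [hM, Matrix.mul_sub, Matrix.mul_add, Matrix.mul_smul, Matrix.mul_one, hJA, hJJ, smul_smul,
      ← sub_smul, ← add_smul]
    rw [div_mul_cancel₀ _ hv0, hc, show (2 : ℝ) * k + ((μ : ℝ) - l) - (2 * k + μ - l) = 0 by ring, zero_smul]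
  have hEE : E * E = E := by
    simp only [hE, Matrix.sub_mul, Matrix.mul_sub, Matrix.one_mul, Matrix.mul_one, Matrix.smul_mul, Matrix.mul_smul,
      hJJ, smul_smul]
    rw [inv_mul_cancel₀ hv0, one_smul, sub_self, smul_zero, sub_zero]
  have hME : M * E = M := by simp [hE, Matrix.mul_sub, hMJ]
  have hEM : E * M = M := by simp [hE, Matrix.sub_mul, hJM]
  have hMM : M * M = (d : ℝ) • E := by
    have e1 : M * M = (4 : ℝ) • (A * A) + (4 * ((μ : ℝ) - l)) • A + (((μ : ℝ) - l) ^ 2) • (1 : Matrix α α ℝ) - (c / v * c) • J := by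
      have : M * M = M * ((2 : ℝ) • A + ((μ : ℝ) - l) • 1) := by
        conv_lhs => arg 2; rw [hM]
        rw [Matrix.mul_sub, Matrix.mul_smul _ (c / v) J, hMJ, smul_zero, sub_zero]
      rw [this, hM]
      simp only [Matrix.sub_mul, Matrix.add_mul, Matrix.mul_add, Matrix.smul_mul, Matrix.mul_smul, Matrix.one_mul,
        Matrix.mul_one, hJA, smul_smul]
      rw [hc]; module
    rw [e1, hAA, hE]
    have key : 4 * (μ : ℝ) - c / v * c = -((d : ℝ) * v⁻¹) := by
      rw [hc, hdR]; field_simp; linear_combination -4 * hrel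
    match_scalars
    all_goals first | ring1 | linear_combination -hdR | linear_combination key
  clear_value E M
  set P : Matrix α α ℝ := (1 / 2 : ℝ) • (E + r⁻¹ • M) with hP
  have hPP : P * P = P := by
    simp only [hP, Matrix.smul_mul, Matrix.mul_smul, Matrix.add_mul, Matrix.mul_add, hEE, hME, hEM, hMM, smul_smul]
    have hinv : r⁻¹ * r⁻¹ * (d : ℝ) = 1 := by rw [← hrr]; field_simp
    match_scalars
    · linear_combination (1 / 4 : ℝ) * hinv
    · ring
  obtain ⟨n, hn⟩ := trace_idempotent_nat hPP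
  have htJ : J.trace = v := by simp [hJ, hv, Matrix.trace]
  have htA : A.trace = 0 := by simp [hA, Matrix.trace, hirr]
  have htE : E.trace = v - 1 := by
    rw [hE, Matrix.trace_sub, Matrix.trace_one, Matrix.trace_smul, htJ, smul_eq_mul, inv_mul_cancel₀ hv0]
  have htM : M.trace = ((μ : ℝ) - l) * v - c := by
    rw [hM, Matrix.trace_sub, Matrix.trace_add, Matrix.trace_smul, Matrix.trace_smul, Matrix.trace_smul,
      Matrix.trace_one, htJ, htA, ← hv, smul_eq_mul, smul_eq_mul, smul_eq_mul, div_mul_cancel₀ _ hv0]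
    ring
  set N : ℤ := -(((Fintype.card α : ℤ) - 1) * ((l : ℤ) - μ) + 2 * k) with hN
  have hNM : (N : ℝ) = M.trace := by rw [htM, hN, hc]; push_cast; rw [← hv]; ring
  simp only [hP, Matrix.trace_smul, Matrix.trace_add, htE, smul_eq_mul, ← hNM] at hn
  set z : ℤ := 2 * n - ((Fintype.card α : ℤ) - 1) with hz
  have hNz : (N : ℝ) = r * z := by
    rw [hz]; push_cast; rw [← hv]
    field_simp at hn
    linear_combination hn
  have hsq : N * N = (d : ℤ) * (z * z) := by
    have : (N : ℝ) * N = d * ((z : ℝ) * z) := by rw [hNz, ← hrr]; ring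
    exact_mod_cast this
  refine ⟨z, ?_⟩
  rw [show (((Fintype.card α : ℤ) - 1) * ((l : ℤ) - μ) + 2 * k) = -N by rw [hN]; ring, neg_sq, sq, sq, hsq]

end Cfsg.Lib.ThreeTr
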