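import Cfsg.Agent.ThreeTransposition.OrderFive.Normalizer

/-!
Normalisers of cyclic subgroups whose commuting members form the transpositions of a symmetric group, for any order.
-/

set_option autoImplicit false
set_option linter.unusedSectionVars false

namespace Cfsg.Lib.OrderFive

open Cfsg Equiv Subgroup Cfsg.Lib.ThreeTr Cfsg.Lib.ElevenNorm

variable {G : Type*} [Group G]

set_option synthInstance.maxSize 2000 in
theorem perm_three_pairs : ∀ u v : Perm (Fin 3), u * u = 1 → v * v = 1 → u ≠ 1 → v ≠ 1 → u ≠ v →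
    ∃ π : Perm (Fin 3), π * swap 0 1 * π⁻¹ = u ∧ π * swap 1 2 * π⁻¹ = v := by
  decide +kernel

theorem perm_three_words : ∀ g : Perm (Fin 3),
    g ∈ [1, swap 0 1, swap 1 2, swap 0 1 * swap 1 2, swap 1 2 * swap 0 1, swap 0 1 * swap 1 2 * swap 0 1] := by
  decide +kernel

/-- Every automorphism of the symmetric group of degree three is inner. -/
theorem exists_inner_three (φ : Perm (Fin 3) ≃* Perm (Fin 3)) : ∃ π : Perm (Fin 3), ∀ g, φ g = π * g * π⁻¹ := by
  have hu : ∀ {s : Perm (Fin 3)}, s * s = 1 → φ s * φ s = 1 := fun hs => by rw [← map_mul, hs, map_one]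
  have hne : ∀ {s : Perm (Fin 3)}, s ≠ 1 → φ s ≠ 1 := fun hs e => hs (φ.injective (e.trans (map_one φ).symm))
  obtain ⟨π, h1, h2⟩ := perm_three_pairs (φ (swap 0 1)) (φ (swap 1 2)) (hu (by decide)) (hu (by decide))
    (hne (by decide)) (hne (by decide)) (φ.injective.ne (by decide))
  refine ⟨π, fun g => ?_⟩
  show φ g = MulAut.conj π g
  have e1 : MulAut.conj π (swap 0 1) = φ (swap 0 1) := h1
  have e2 : MulAut.conj π (swap 1 2) = φ (swap 1 2) := h2
  have h := perm_three_words g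
  simp only [List.mem_cons, List.not_mem_nil, or_false] at h
  rcases h with rfl | rfl | rfl | rfl | rfl | rfl <;> simp only [map_mul, map_one, e1, e2]

/-- The centraliser and the normaliser, and the splitting of the latter. -/
theorem normalizer_split_order [Finite G] {D : Set G} (hconj : ∀ g : G, ∀ y ∈ D, g * y * g⁻¹ ∈ D) {x d : G} {m : ℕ}
    {q r : ℕ} (hm : m = 3 ∨ 5 ≤ m) (hx : orderOf x = q) (hF : SymSet (fixedSet D x) m) (hd : d ∈ fixedSet D x)
    (hC : Nat.card ↥(centralizer ({d} : Set G) ⊓ centralizer ({x} : Set G)) * m.choose 2 = q * m.factorial)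
    (hN : Nat.card ↥(centralizer ({d} : Set G) ⊓ normalizer ((zpowers x : Subgroup G) : Set G)) * m.choose 2 =
      r * m.factorial) :
    ∃ F : Subgroup G, Nat.card ↥F = r ∧ zpowers x ≤ F ∧
      F ⊓ centralizer ((zpowers x : Subgroup G) : Set G) = zpowers x ∧
      F ⊓ closure (fixedSet D x) = ⊥ ∧
      (∀ a ∈ F, ∀ b ∈ closure (fixedSet D x), a * b = b * a) ∧
      F ⊔ closure (fixedSet D x) = normalizer ((zpowers x : Subgroup G) : Set G) ∧
      zpowers x ⊔ closure (fixedSet D x) = centralizer ({x} : Set G) ∧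
      zpowers x ⊓ closure (fixedSet D x) = ⊥ := by
  have hcard := hF.ncard
  obtain ⟨φ, hφ, hφF⟩ := hF
  set N := normalizer ((zpowers x : Subgroup G) : Set G) with hNdef
  set C := centralizer ({x} : Set G) with hCdef
  set S := closure (fixedSet D x) with hSdef
  have hS : S = φ.range := by rw [hSdef, hφF, closure_image_swp]
  have hSC : S ≤ C := (closure_le _).2 fun y hy => mem_centralizer_singleton_iff.2 hy.2.eq.symm
  have hCN : C ≤ N := centralizer_le_normalizer_zpowers x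
  have hmemφ : ∀ {σ}, σ ∈ Swp m → φ σ ∈ fixedSet D x := fun h => hφF ▸ ⟨_, h, rfl⟩
  have hSsymm : ∀ y ∈ fixedSet D x, ∃ g ∈ S, g * d * g⁻¹ = y := by
    intro y hy
    rw [hφF] at hy hd
    obtain ⟨σ, hσ, rfl⟩ := hy
    obtain ⟨τ, ⟨a, b, hab, rfl⟩, rfl⟩ := hd
    obtain ⟨p, q, hpq, rfl⟩ := hσ
    obtain ⟨g, hg⟩ := isConj_iff.1 (Perm.isConj_swap hab hpq)
    exact ⟨φ g, hS ▸ ⟨g, rfl⟩, by rw [← map_inv, ← map_mul, ← map_mul, hg]⟩
  have hNinv : ∀ g ∈ N, ∀ y ∈ fixedSet D x, g * y * g⁻¹ ∈ fixedSet D x := fun g hg y hy =>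
    ⟨hconj g y hy.1, commute_conj_of_mem_normalizer hg hy.2⟩
  have hNcard : Nat.card N = r * m.factorial := by
    rw [card_mul_orbit N d _ hd hNinv fun y hy => by
      obtain ⟨g, hg, he⟩ := hSsymm y hy; exact ⟨g, hCN (hSC hg), he⟩, hcard, inf_comm, mul_comm]
    exact hN
  have hCcard : Nat.card C = q * m.factorial := by
    rw [card_mul_orbit C d _ hd (fun g hg => hNinv g (hCN hg)) fun y hy => by
      obtain ⟨g, hg, he⟩ := hSsymm y hy; exact ⟨g, hSC hg, he⟩, hcard, inf_comm, mul_comm]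
    exact hC
  set F := N ⊓ centralizer (S : Set G) with hFdef
  have hFc : ∀ a ∈ F, ∀ b ∈ S, a * b = b * a := fun a ha b hb => (mem_centralizer_iff.1 ha.2 b hb).symm
  have hFS : F ⊓ S = ⊥ := by
    rw [eq_bot_iff]
    intro g hg
    obtain ⟨σ, rfl⟩ : g ∈ φ.range := hS ▸ hg.2
    have hz : σ ∈ center (Perm (Fin m)) := mem_center_iff.2 fun τ => hφ (by
      rw [map_mul, map_mul]
      exact (hFc _ hg.1 _ (hS ▸ ⟨τ, rfl⟩)).symm)
    rw [Cfsg.Lib.Classical.SymIndex.center_perm_eq_bot (by rw [Fintype.card_fin]; omega), mem_bot] at hz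
    rw [hz, map_one]
    exact one_mem _
  have hsplit : ∀ n ∈ N, ∃ σ : Perm (Fin m), (φ σ)⁻¹ * n ∈ F := by
    intro n hn
    have hSmap : ∀ n ∈ N, ∀ g ∈ S, n * g * n⁻¹ ∈ S := by
      intro n hn g hg
      have hle : S ≤ S.comap (MulAut.conj n).toMonoidHom :=
        (closure_le _).2 fun y hy => subset_closure (hNinv n hn y hy)
      exact hle hg
    let e : Perm (Fin m) ≃* ↥φ.range := MonoidHom.ofInjective hφ
    have hmem : ∀ n ∈ N, ∀ σ, n * φ σ * n⁻¹ ∈ φ.range := fun n hn σ => hS ▸ hSmap n hn _ (hS ▸ ⟨σ, rfl⟩)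
    choose α hα using fun σ => hmem n hn σ
    choose β hβ using fun σ => hmem n⁻¹ (inv_mem hn) σ
    let Φ : Perm (Fin m) ≃* Perm (Fin m) :=
      { toFun := α
        invFun := β
        left_inv := fun σ => hφ (by rw [hβ, hα]; group)
        right_inv := fun σ => hφ (by rw [hα, hβ]; group)
        map_mul' := fun σ τ => hφ (by rw [map_mul, hα, hα, hα, map_mul]; group) }
    obtain ⟨π, hπ⟩ : ∃ π : Perm (Fin m), ∀ g, Φ g = π * g * π⁻¹ := by
      rcases hm with rfl | hm
      · exact exists_inner_three Φ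
      refine exists_inner (by rw [Fintype.card_fin]; exact hm) Φ fun s hs => ?_
      have h := hNinv n⁻¹ (inv_mem hn) _ (hmemφ hs)
      rw [← hβ, hφF] at h
      obtain ⟨τ, hτ, hτe⟩ := h
      show (β s).IsSwap
      rw [← hφ hτe]
      exact hτ
    have hπS : φ π ∈ S := hS ▸ ⟨π, rfl⟩
    refine ⟨π, mem_inf.2 ⟨mul_mem (inv_mem (hCN (hSC hπS))) hn, mem_centralizer_iff.2 fun g hg => ?_⟩⟩
    obtain ⟨σ, rfl⟩ : g ∈ φ.range := hS ▸ hg
    have h1 : n * φ σ * n⁻¹ = φ π * φ σ * (φ π)⁻¹ := by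
      rw [← hα, ← map_inv, ← map_mul, ← map_mul, ← hπ σ]
      rfl
    calc φ σ * ((φ π)⁻¹ * n) = (φ π)⁻¹ * (φ π * φ σ * (φ π)⁻¹) * n := by group
      _ = _ := by rw [← h1]; group
  have hsup : F ⊔ S = N := by
    refine le_antisymm (sup_le inf_le_left (hSC.trans hCN)) fun n hn => ?_
    obtain ⟨σ, hσ⟩ := hsplit n hn
    rw [show n = φ σ * ((φ σ)⁻¹ * n) by group]
    exact mul_mem (mem_sup_right (hS ▸ ⟨σ, rfl⟩)) (mem_sup_left hσ)
  have hScard : Nat.card S = m.factorial := by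
    rw [hS, ← Nat.card_congr (MonoidHom.ofInjective hφ).toEquiv, Nat.card_perm, Nat.card_fin]
  -- products
  have hprod : ∀ A : Subgroup G, A ≤ F → Nat.card ↥(A ⊔ S) = Nat.card A * Nat.card S := by
    intro A hA
    have hcm : ∀ (a : A) (b : S), Commute (A.subtype a) (S.subtype b) := fun a b => hFc _ (hA a.2) _ b.2
    have hinj : Function.Injective (A.subtype.noncommCoprod S.subtype hcm) := by
      rw [MonoidHom.noncommCoprod_injective]
      refine ⟨A.subtype_injective, S.subtype_injective, ?_⟩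
      rw [range_subtype, range_subtype]
      exact disjoint_iff.2 (le_bot_iff.1 (hFS ▸ inf_le_inf_right S hA))
    have h := Nat.card_congr (MonoidHom.ofInjective hinj).toEquiv
    rw [MonoidHom.noncommCoprod_range, range_subtype, range_subtype, Nat.card_prod] at h
    exact h.symm
  have hFr : Nat.card F = r := by
    have := hprod F le_rfl
    rw [hsup, hNcard, hScard] at this
    exact (Nat.eq_of_mul_eq_mul_right (Nat.factorial_pos m) this).symm
  have hxF : zpowers x ≤ F := by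
    rw [zpowers_le]
    exact ⟨hCN (mem_centralizer_singleton_iff.2 rfl),
      mem_centralizer_iff.2 fun g hg => mem_centralizer_singleton_iff.1 (hSC hg)⟩
  have hCsup : zpowers x ⊔ S = C := by
    refine eq_of_le_of_card_ge (sup_le (zpowers_le.2 (mem_centralizer_singleton_iff.2 rfl)) hSC) ?_
    rw [hprod _ hxF, Nat.card_zpowers, hx, hScard, hCcard]
  have hxS : zpowers x ⊓ S = ⊥ := le_bot_iff.1 (hFS ▸ inf_le_inf_right S hxF)
  refine ⟨F, hFr, hxF, ?_, hFS, hFc, hsup, hCsup, hxS⟩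
  rw [centralizer_zpowers, ← hCdef]
  refine le_antisymm ?_ (le_inf hxF (zpowers_le.2 (mem_centralizer_singleton_iff.2 rfl)))
  intro g hg
  obtain ⟨hgF, hgC⟩ := mem_inf.1 hg
  rw [← hCsup] at hgC
  rw [← SetLike.mem_coe, coe_mul_of_right_le_normalizer_left (zpowers x) S (hSC.trans hCN)] at hgC
  obtain ⟨a, ha, b, hb, rfl⟩ := Set.mem_mul.1 hgC
  have hb' : b ∈ F := by
    have := mul_mem (inv_mem (hxF ha)) hgF
    rwa [inv_mul_cancel_left] at this
  have : b = 1 := mem_bot.1 (hFS ▸ (⟨hb', hb⟩ : b ∈ F ⊓ S))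
  rw [this, mul_one]
  exact ha

end Cfsg.Lib.OrderFive
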