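import Cfsg.Agent.ThreeTransposition.ElevenNorm.Basic

/-!
Elements of prime order: fixed points in invariant sets, and centralisers and normalisers through central extensions
of coprime kernel.
-/

set_option autoImplicit false
set_option linter.unusedSectionVars false

namespace Cfsg.Lib.PrimeLift

open Subgroup Cfsg.Lib.ElevenNorm

variable {G : Type*} [Group G] {q : ℕ}

/-- The fixed members of an invariant set are as many as the set modulo the order. -/
theorem ncard_fixed_mod [Finite G] (hq : q.Prime) {x : G} (hx : orderOf x = q) (S : Set G)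
    (hinv : ∀ y ∈ S, x * y * x⁻¹ ∈ S) : ({y : G | y ∈ S ∧ Commute x y}).ncard % q = S.ncard % q := by
  haveI : Fact q.Prime := ⟨hq⟩
  have hpow : ∀ g ∈ zpowers x, ∀ y ∈ S, g * y * g⁻¹ ∈ S := by
    intro g hg
    obtain ⟨n, rfl⟩ := (isOfFinOrder_of_finite x).mem_powers_iff_mem_zpowers.2 hg
    simp only
    clear hg
    induction n with
    | zero => intro y hy; simpa using hy
    | succ n ih =>
      intro y hy
      rw [show x ^ (n + 1) * y * (x ^ (n + 1))⁻¹ = x * (x ^ n * y * (x ^ n)⁻¹) * x⁻¹ by rw [pow_succ']; group]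
      exact hinv _ (ih y hy)
  letI : MulAction (zpowers x) S :=
    { smul := fun g y => ⟨g * y * (g : G)⁻¹, hpow g g.2 y y.2⟩
      one_smul := fun y => Subtype.ext (show (1 : G) * y * (1 : G)⁻¹ = y by group)
      mul_smul := fun g k y => Subtype.ext
        (show (g : G) * k * y * ((g : G) * k)⁻¹ = g * (k * y * (k : G)⁻¹) * (g : G)⁻¹ by group) }
  have hsmul : ∀ (g : zpowers x) (y : S), ((g • y : S) : G) = g * y * (g : G)⁻¹ := fun _ _ => rfl
  have hP : IsPGroup q (zpowers x) := IsPGroup.of_card (n := 1) (by rw [Nat.card_zpowers, hx, pow_one])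
  have h := hP.card_modEq_card_fixedPoints S
  rw [Nat.ModEq, Nat.card_coe_set_eq] at h
  rw [h]
  congr 1
  rw [← Nat.card_coe_set_eq]
  refine Nat.card_congr
    { toFun := fun y => ⟨⟨y.1, y.2.1⟩, fun g => Subtype.ext ?_⟩
      invFun := fun y => ⟨y.1.1, y.1.2, mul_inv_eq_iff_eq_mul.1
        ((hsmul ⟨x, mem_zpowers x⟩ y.1).symm.trans (congrArg Subtype.val (y.2 ⟨x, mem_zpowers x⟩)))⟩
      left_inv := fun _ => rfl
      right_inv := fun _ => rfl }
  obtain ⟨j, hj⟩ := mem_zpowers_iff.1 g.2
  rw [hsmul, ← hj, (y.2.2.zpow_left j).eq, mul_inv_cancel_right]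

/-- Two elements of prime order congruent modulo a central kernel of order prime to it are equal. -/
theorem eq_of_image {K Q : Type*} [Group K] [Finite K] [Group Q] (hq : q.Prime) (f : K →* Q) (hker : f.ker ≤ center K)
    (hk : ¬ q ∣ Nat.card f.ker) {y : K} (hy : y ^ q = 1) (k : K) {w : K} (hw : w ^ q = 1)
    (he : f (k * y * k⁻¹) = f w) : k * y * k⁻¹ = w := by
  haveI : Fact q.Prime := ⟨hq⟩
  set z : K := w⁻¹ * (k * y * k⁻¹) with hz
  have hzk : z ∈ f.ker := by rw [MonoidHom.mem_ker, hz, map_mul, map_inv, he, inv_mul_cancel]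
  have hzc : Commute w z := mem_center_iff.1 (hker hzk) _
  have hzq : z ^ q = 1 := by
    have h1 : (w * z) ^ q = 1 := by rw [hz, mul_inv_cancel_left, conj_pow, hy, mul_one, mul_inv_cancel]
    rwa [hzc.mul_pow, hw, one_mul] at h1
  have hz1 : z = 1 := by
    by_contra hne
    have h := f.ker.orderOf_dvd_natCard hzk
    rw [orderOf_eq_prime hzq hne] at h
    exact hk h
  rw [hz] at hz1
  exact (inv_mul_eq_one.1 hz1).symm

/-- Through a central extension with kernel of order prime to the order of the element. -/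
theorem lift_counts [Finite G] {Q : Type*} [Group Q] (hq : q.Prime) (K : Subgroup G) (f : K →* Q)
    (hf : Function.Surjective f) (hker : f.ker ≤ center K) (hk : ¬ q ∣ Nat.card f.ker) {x : G} (hxK : x ∈ K)
    (hx : orderOf x = q) :
    orderOf (f ⟨x, hxK⟩) = q ∧ (∀ g : K, Commute (f ⟨x, hxK⟩) (f g) → Commute x (g : G)) ∧
    Nat.card ↥(K ⊓ centralizer ({x} : Set G)) = Nat.card f.ker * Nat.card (centralizer ({f ⟨x, hxK⟩} : Set Q)) ∧
    Nat.card ↥(K ⊓ normalizer ((zpowers x : Subgroup G) : Set G)) =
      Nat.card f.ker * Nat.card (normalizer ((zpowers (f ⟨x, hxK⟩) : Subgroup Q) : Set Q)) := by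
  haveI : Fact q.Prime := ⟨hq⟩
  have : Finite Q := Finite.of_surjective f hf
  set X : K := ⟨x, hxK⟩ with hXdef
  have hXq : X ^ q = 1 := Subtype.ext (by show x ^ q = 1; rw [← hx, pow_orderOf_eq_one])
  have hcomm : ∀ g : K, Commute (f X) (f g) → Commute x (g : G) := by
    intro g e
    have := eq_of_image hq f hker hk hXq g (w := X) hXq
      (by rw [map_mul, map_mul, map_inv, ← e.eq, mul_inv_cancel_right])
    rw [mul_inv_eq_iff_eq_mul] at this
    exact (congrArg Subtype.val this).symm
  refine ⟨orderOf_eq_prime (by rw [← map_pow, hXq, map_one]) fun e => hk ?_, hcomm, ?_, ?_⟩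
  · have h' := f.ker.orderOf_dvd_natCard (x := X) (MonoidHom.mem_ker.2 e)
    rwa [hXdef, Subgroup.orderOf_mk, hx] at h'
  · have e : (centralizer ({f X} : Set Q)).comap f = (K ⊓ centralizer ({x} : Set G)).subgroupOf K := by
      ext g
      simp only [mem_comap, mem_centralizer_singleton_iff, mem_subgroupOf, mem_inf, SetLike.coe_mem, true_and]
      constructor
      · exact fun h => (hcomm g h.symm).eq.symm
      · intro h
        rw [← map_mul, ← map_mul]
        exact congrArg f (Subtype.ext h)
    rw [← card_ker_mul f hf, e, Nat.card_congr (subgroupOfEquivOfLe inf_le_left).toEquiv]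
  · have e : (normalizer ((zpowers (f X) : Subgroup Q) : Set Q)).comap f =
        (K ⊓ normalizer ((zpowers x : Subgroup G) : Set G)).subgroupOf K := by
      ext g
      simp only [mem_comap, mem_subgroupOf, mem_inf, SetLike.coe_mem, true_and, mem_normalizer_zpowers,
        mem_zpowers_iff]
      constructor
      · rintro ⟨j, hj⟩
        have := eq_of_image hq f hker hk hXq g (w := X ^ j)
          (by rw [← zpow_natCast (X ^ j) q, ← zpow_mul, mul_comm, zpow_mul, zpow_natCast, hXq, one_zpow])
          (by rw [map_mul, map_mul, map_inv, map_zpow, hj])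
        exact ⟨j, by simpa [X] using (congrArg Subtype.val this).symm⟩
      · rintro ⟨j, hj⟩
        refine ⟨j, ?_⟩
        rw [← map_zpow, ← map_inv, ← map_mul, ← map_mul]
        exact congrArg f (Subtype.ext (by simpa [X] using hj))
    rw [← card_ker_mul f hf, e, Nat.card_congr (subgroupOfEquivOfLe inf_le_left).toEquiv]

end Cfsg.Lib.PrimeLift
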