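import Cfsg.Agent.ThreeTransposition.M23Count.M23
import Cfsg.Agent.ThreeTransposition.M23Count.PrimeTools
import Cfsg.Agent.ThreeTransposition.M23Count.NormSplit
import Cfsg.Agent.ThreeTransposition.OrderFive.Sylow
import Cfsg.Agent.ThreeTransposition.M22Count.OrderSeven
import Cfsg.Agent.ThreeTransposition.M22Count.NormSeven
import Cfsg.Agent.ThreeTransposition.M22Count.PetersenTen
import Cfsg.Agent.ThreeTransposition.ElevenNorm.Fixed

/-!
The subgroups of order seven in a group of type M(23): ten commuting members generating a symmetric group of degree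
five, and the normalisers.
-/

set_option autoImplicit false
set_option linter.unusedSectionVars false

namespace Cfsg.Lib.ThreeTr

open Cfsg Subgroup Cfsg.Lib.OrderFive Cfsg.Lib.ElevenNorm

universe u

variable {G : Type u} [Group G] [Finite G] {D : Set G}

/-- What an element of order seven has in type M(22). -/
theorem M22.seven_counts (h : M22 D) {x : G} (hx : orderOf x = 7) :
    (fixedSet D x).ncard = 3 ∧ (∀ a ∈ fixedSet D x, ∀ b ∈ fixedSet D x, a ≠ b → ¬ Commute a b) ∧
      Nat.card (centralizer ({x} : Set G)) = 42 ∧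
      Nat.card (normalizer ((zpowers x : Subgroup G) : Set G)) = 252 := by
  have hE := h.cls.1
  obtain ⟨a, ha, b, hb, hab, hall⟩ := h.fixed_seven hx
  have hfix : fixedSet D x = {a, b, a * b * a} := Set.ext fun z => hall z
  have hnc : ∀ a ∈ fixedSet D x, ∀ b ∈ fixedSet D x, a ≠ b → ¬ Commute a b := fun y hy z hz hne hyz =>
    h.not_seven_pair hy.1 ⟨hz.1, hne.symm, hyz⟩ hx hy.2 hz.2
  have hthird := not_commute_third hE ha hb hab
  have h3 : (fixedSet D x).ncard = 3 := by
    rw [hfix]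
    refine Set.ncard_eq_three.2 ⟨a, b, a * b * a, fun e => hab (e ▸ Commute.refl a),
      fun e => hthird (by rw [← e]), fun e => ?_, rfl⟩
    have h' := not_commute_third hE hb ha fun e' => hab e'.symm
    rw [← third_eq hE ha hb hab, ← e] at h'
    exact h' (Commute.refl b)
  obtain ⟨F, hF, hxF, hFC, hFS, hcomm, hN, ⟨e⟩⟩ := h.normaliser_seven ha hx ((hall a).2 (Or.inl rfl)).2
  set S := closure (D ∩ (centralizer ((zpowers x : Subgroup G) : Set G) : Set G))
  set C := centralizer ((zpowers x : Subgroup G) : Set G) with hC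
  have hS : Nat.card S = 6 := by rw [Nat.card_congr e.toEquiv, Nat.card_perm, Nat.card_fin]; rfl
  have hSC : S ≤ C := (closure_le _).2 fun y hy => hy.2
  have hCX : zpowers x ⊔ S = C := by
    refine le_antisymm (sup_le (hFC ▸ inf_le_right) hSC) fun c hc => ?_
    have hcN : c ∈ F ⊔ S := hN ▸ centralizer_le_normalizer _ hc
    obtain ⟨f, hf, s, hs, rfl⟩ := exists_mul_of_mem_sup (fun a ha b hb => hcomm a ha b hb) hcN
    refine mul_mem (mem_sup_left (hFC ▸ mem_inf.2 ⟨hf, ?_⟩)) (mem_sup_right hs)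
    simpa using mul_mem hc (inv_mem (hSC hs))
  refine ⟨h3, hnc, ?_, ?_⟩
  · rw [← centralizer_zpowers, ← hC, ← hCX, card_sup_of_commute (zpowers x) S
      (fun a ha b hb => hcomm a (hxF ha) b hb) (le_bot_iff.1 (hFS ▸ inf_le_inf_right S hxF)), Nat.card_zpowers, hx, hS]
  · rw [← hN, card_sup_of_commute F S (fun a ha b hb => hcomm a ha b hb) hFS, hF, hS]

namespace M23

variable (h : M23 D)
include h

/-- At the distinguished member. -/
theorem seven_dist {d : G} (hd : d ∈ D) (hQ : M22 (descSet D d)) {x : G} (hxd : Commute x d) (hx : orderOf x = 7) :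
    (fixedSet (perp D d) x).ncard = 3 ∧
      (∀ a ∈ fixedSet (perp D d) x, ∀ b ∈ fixedSet (perp D d) x, a ≠ b → ¬ Commute a b) ∧
      Nat.card ↥(centralizer ({d} : Set G) ⊓ centralizer ({x} : Set G)) = 84 ∧
      Nat.card ↥(centralizer ({d} : Set G) ⊓ normalizer ((zpowers x : Subgroup G) : Set G)) = 504 := by
  have hT : TwinFree D := h.solid.full.tower.twin
  rw [h.solid.centralizer_eq hd]
  set K := closure (perp D d) with hK
  have hxK : x ∈ K := by
    rw [hK, ← h.solid.centralizer_eq hd, mem_centralizer_singleton_iff]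
    exact hxd.eq
  set f : K →* K ⧸ center K := QuotientGroup.mk' (center K)
  have hfs : Function.Surjective f := QuotientGroup.mk'_surjective _
  have hker : f.ker = center K := QuotientGroup.ker_mk' _
  have hk : Nat.card f.ker = 2 := by rw [hker]; exact h.solid.card_center_closure_perp hd
  obtain ⟨ho, hcm, hc, hn⟩ := PrimeLift.lift_counts (q := 7) (by norm_num) K f hfs hker.le (by rw [hk]; norm_num) hxK hx
  obtain ⟨h3, hnc, hC, hN⟩ := hQ.seven_counts ho
  have himg : ∀ (y : K), (y : G) ∈ fixedSet (perp D d) x → f y ∈ fixedSet (descSet D d) (f ⟨x, hxK⟩) := fun y hy =>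
    ⟨⟨y, hy.1, rfl⟩, (show Commute (⟨x, hxK⟩ : K) y from Subtype.ext hy.2.eq).map f⟩
  refine ⟨?_, fun a ha b hb hne hab => ?_, by rw [hc, hk, hC], by rw [hn, hk, hN]⟩
  · rw [← ncard_descImg h.cls hT hd (S := fixedSet (perp D d) x) (fun y hy => hy.1), ← h3]
    congr 1
    ext z
    constructor
    · rintro ⟨y, hy, rfl⟩
      exact himg y hy
    · rintro ⟨⟨y, hy, rfl⟩, hc'⟩
      exact ⟨y, ⟨hy, hcm y hc'⟩, rfl⟩
  · refine hnc _ (himg ⟨a, subset_closure ha.1⟩ ha) _ (himg ⟨b, subset_closure hb.1⟩ hb) (fun e => hne ?_) ?_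
    · exact desc_mk_inj h.cls hT hd (x := ⟨a, subset_closure ha.1⟩) (y := ⟨b, subset_closure hb.1⟩) ha.1 hb.1 e
    · exact (show Commute (⟨a, subset_closure ha.1⟩ : K) ⟨b, subset_closure hb.1⟩ from Subtype.ext hab.eq).map f

theorem seven_at {p : G} (hp : p ∈ D) {x : G} (hxp : Commute x p) (hx : orderOf x = 7) :
    (fixedSet (perp D p) x).ncard = 3 ∧
      (∀ a ∈ fixedSet (perp D p) x, ∀ b ∈ fixedSet (perp D p) x, a ≠ b → ¬ Commute a b) ∧
      Nat.card ↥(centralizer ({p} : Set G) ⊓ centralizer ({x} : Set G)) = 84 ∧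
      Nat.card ↥(centralizer ({p} : Set G) ⊓ normalizer ((zpowers x : Subgroup G) : Set G)) = 504 := by
  obtain ⟨d, hd, hQ⟩ := h.descended
  obtain ⟨g, rfl⟩ := exists_conj h.cls hd hp
  set α : G ≃* G := MulAut.conj g
  obtain ⟨x, rfl⟩ := α.surjective x
  rw [MulEquiv.orderOf_eq] at hx
  have hxd : Commute x d := (conj_commute_iff g x d).1 hxp
  obtain ⟨h3, hnc, hC, hN⟩ := h.seven_dist hd hQ hxd hx
  have himg : fixedSet (perp D (g * d * g⁻¹)) (α x) = α '' fixedSet (perp D d) x := by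
    ext y
    obtain ⟨w, rfl⟩ := α.surjective y
    rw [α.injective.mem_set_image, ← conj_image_perp h.cls g d]
    constructor
    · rintro ⟨⟨v, hv, e⟩, hcom⟩
      obtain rfl : v = w := α.injective e
      exact ⟨hv, (conj_commute_iff g x v).1 hcom⟩
    · rintro ⟨hw, hcom⟩
      exact ⟨⟨w, hw, rfl⟩, (conj_commute_iff g x w).2 hcom⟩
  refine ⟨by rw [himg, Set.ncard_image_of_injective _ α.injective, h3], ?_, ?_, ?_⟩
  · rw [himg]
    rintro _ ⟨a, ha, rfl⟩ _ ⟨b, hb, rfl⟩ hne hab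
    exact hnc a ha b hb (fun e => hne (congrArg α e)) ((conj_commute_iff g a b).1 hab)
  · rw [← hC, ← card_map_of_injective (K := centralizer ({d} : Set G) ⊓ centralizer ({x} : Set G))
      (f := α.toMonoidHom) α.injective, map_inf _ _ _ α.injective, map_centralizer_singleton,
      map_centralizer_singleton]
    rfl
  · rw [← hN, ← card_map_of_injective (K := centralizer ({d} : Set G) ⊓ normalizer ((zpowers x : Subgroup G) : Set G))
      (f := α.toMonoidHom) α.injective, map_inf _ _ _ α.injective, map_centralizer_singleton,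
      map_normalizer_zpowers]
    rfl

/-- The ten members. -/
theorem seven_members {x : G} (hx : orderOf x = 7) : SymSet (fixedSet D x) 5 := by
  have hE := h.cls.1
  set E := fixedSet D x with hEdef
  have htr : IsThreeTranspositionSet E := ⟨fun d hd => hE.1 d hd.1, fun d hd e he => hE.2 d hd.1 e he.1⟩
  have hcl : ∀ a ∈ E, ∀ b ∈ E, a * b * a ∈ E := fun a ha b hb =>
    ⟨by simpa [inv_eq hE ha.1] using conj_mem h.cls a hb.1, (ha.2.mul_right hb.2).mul_right ha.2⟩
  have hnb : ∀ d, ThreeTrBase.nb E d = fixedSet (perp D d) x := fun d => Set.ext fun y =>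
    ⟨fun hy => ⟨⟨hy.1.1, hy.2.1, hy.2.2⟩, hy.1.2⟩, fun hy => ⟨⟨hy.1.1, hy.2⟩, hy.1.2.1, hy.1.2.2⟩⟩
  have hthree : ∀ d ∈ E, (ThreeTrBase.nb E d).ncard = 3 := fun d hd => by
    rw [hnb]; exact (h.seven_at hd.1 hd.2 hx).1
  have htri : ∀ d ∈ E, ∀ y ∈ ThreeTrBase.nb E d, ∀ z ∈ ThreeTrBase.nb E d, y ≠ z → ¬ Commute y z := by
    intro d hd
    rw [hnb]
    exact (h.seven_at hd.1 hd.2 hx).2.1
  have hmod : E.ncard % 7 = 3 := by
    rw [hEdef, fixedSet, PrimeLift.ncard_fixed_mod (by norm_num) hx D fun y hy => conj_mem h.cls x hy,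
      h.solid.full.card]
  obtain ⟨d, hd⟩ := Set.nonempty_of_ncard_ne_zero (s := E) fun e => by rw [e] at hmod; omega
  obtain ⟨a, b, c, -, -, -, habc⟩ := Set.ncard_eq_three.1 (hthree d hd)
  have hmem : ∀ {u}, u ∈ ({a, b, c} : Set G) → u ∈ ThreeTrBase.nb E d := fun hu => habc ▸ hu
  have hsub : E ⊆ insert d ((((({a, b, c} : Set G)) ∪ (ThreeTrBase.nb E a \ {d})) ∪ (ThreeTrBase.nb E b \ {d})) ∪
      (ThreeTrBase.nb E c \ {d})) := by
    intro z hz
    by_cases hzd : z = d
    · exact Or.inl hzd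
    refine Or.inr ?_
    by_cases hdz : Commute d z
    · exact Or.inl (Or.inl (Or.inl (habc ▸ (⟨hz, hzd, hdz⟩ : z ∈ ThreeTrBase.nb E d))))
    have hm := PrimeLift.ncard_fixed_mod (q := 7) (by norm_num) hx (perp D d ∩ perp D z) (fun y hy =>
      ⟨ElevenNorm.conj_mem_perp h.cls hd.2 y hy.1, ElevenNorm.conj_mem_perp h.cls hz.2 y hy.2⟩)
    rw [h.solid.full.nonadj d hd.1 z hz.1 hdz] at hm
    obtain ⟨f, hf, hxf⟩ := Set.nonempty_of_ncard_ne_zero
      (s := {y : G | y ∈ perp D d ∩ perp D z ∧ Commute x y}) fun h0 => by rw [h0] at hm; norm_num at hm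
    have hfd : f ∈ ThreeTrBase.nb E d := ⟨⟨hf.1.1, hxf⟩, hf.1.2.1, hf.1.2.2⟩
    have hzf : z ∈ ThreeTrBase.nb E f \ {d} := ⟨⟨hz, hf.2.2.1.symm, hf.2.2.2.symm⟩, hzd⟩
    rw [habc] at hfd
    rcases hfd with rfl | rfl | rfl
    exacts [Or.inl (Or.inl (Or.inr hzf)), Or.inl (Or.inr hzf), Or.inr hzf]
  have k : ∀ {u : G}, u ∈ ({a, b, c} : Set G) → (ThreeTrBase.nb E u \ {d}).ncard = 2 := fun {u} hu => by
    rw [Set.ncard_sdiff_singleton_of_mem (ThreeTrBase.nb_symm hd (hmem hu)), hthree u (hmem hu).1]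
  have hle : E.ncard ≤ 10 := by
    have := Set.ncard_le_ncard hsub
    have := Set.ncard_insert_le d (((({a, b, c} : Set G) ∪ (ThreeTrBase.nb E a \ {d})) ∪
      (ThreeTrBase.nb E b \ {d})) ∪ (ThreeTrBase.nb E c \ {d}))
    have := Set.ncard_union_le ((({a, b, c} : Set G) ∪ (ThreeTrBase.nb E a \ {d})) ∪
      (ThreeTrBase.nb E b \ {d})) (ThreeTrBase.nb E c \ {d})
    have := Set.ncard_union_le (({a, b, c} : Set G) ∪ (ThreeTrBase.nb E a \ {d})) (ThreeTrBase.nb E b \ {d})
    have := Set.ncard_union_le ({a, b, c} : Set G) (ThreeTrBase.nb E a \ {d})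
    have : ({a, b, c} : Set G).ncard = 3 := habc ▸ hthree d hd
    have := k (u := a) (by simp)
    have := k (u := b) (by simp)
    have := k (u := c) (by simp)
    omega
  obtain ⟨-, φ, hinj, -, hsw, hsurj⟩ := (⟨htr, hcl, hthree, htri, hle⟩ : Flat E).five hd (by omega)
  refine ⟨φ, hinj, Set.Subset.antisymm (fun z hz => ?_) ?_⟩
  · obtain ⟨a, b, hab, e⟩ := hsurj z hz
    exact ⟨_, swap_mem_swp hab, e⟩
  · rintro _ ⟨s, ⟨a, b, hab, rfl⟩, rfl⟩
    exact hsw a b hab

/-- Two subgroups of order seven are conjugate. -/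
theorem seven_conj {X Y : Subgroup G} (hX : Nat.card X = 7) (hY : Nat.card Y = 7) :
    ∃ g : G, X.map (MulAut.conj g).toMonoidHom = Y := by
  haveI : Fact (Nat.Prime 7) := ⟨by norm_num⟩
  have hfac : (Nat.card G).factorization 7 = 1 := by
    rw [h.card_group, show 31671 * (3510 * 18393661440 * 2) = 7 ^ 1 * (31671 * (3510 * 2627665920 * 2)) by norm_num,
      Nat.factorization_mul (by norm_num) (by norm_num), Finsupp.add_apply,
      Nat.Prime.factorization_pow (by norm_num), Nat.factorization_eq_zero_of_not_dvd (by norm_num)]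
    simp
  set P : Sylow 7 G := Sylow.ofCard X (by rw [hfac, hX, pow_one]) with hP
  set Q : Sylow 7 G := Sylow.ofCard Y (by rw [hfac, hY, pow_one]) with hQ
  obtain ⟨g, hg⟩ := MulAction.exists_smul_eq G P Q
  refine ⟨g, ?_⟩
  rw [show X = (P : Subgroup G) from rfl, show Y = (Q : Subgroup G) from rfl, ← hg, Sylow.coe_subgroup_smul]
  rfl

theorem seven_normaliser {X : Subgroup G} (hX : Nat.card X = 7) :
    ∃ F : Subgroup G, Nat.card ↥F = 42 ∧ X ≤ F ∧ F ⊓ centralizer (X : Set G) = X ∧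
      F ⊓ closure (D ∩ (centralizer (X : Set G) : Set G)) = ⊥ ∧
      (∀ f ∈ F, ∀ y ∈ closure (D ∩ (centralizer (X : Set G) : Set G)), f * y = y * f) ∧
      F ⊔ closure (D ∩ (centralizer (X : Set G) : Set G)) = normalizer (X : Set G) ∧
      Nonempty (↥(closure (D ∩ (centralizer (X : Set G) : Set G))) ≃* Equiv.Perm (Fin 5)) := by
  obtain ⟨x, hx, rfl⟩ := exists_gen_prime (by norm_num) hX
  have hsym := h.seven_members hx
  obtain ⟨d, hd⟩ : (fixedSet D x).Nonempty := Set.nonempty_of_ncard_ne_zero (by rw [hsym.ncard]; decide)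
  obtain ⟨-, -, hC, hN⟩ := h.seven_at hd.1 hd.2 hx
  obtain ⟨F, hF, hxF, hFC, hFS, hcomm, hsup, -, -⟩ := normalizer_split_order (q := 7) (r := 42)
    (fun g y hy => conj_mem h.cls g hy) (Or.inr le_rfl) hx hsym hd (by rw [hC]; rfl) (by rw [hN]; rfl)
  refine ⟨F, hF, hxF, hFC, ?_, ?_, ?_, ?_⟩
  · rw [inter_centralizer_zpowers]; exact hFS
  · rw [inter_centralizer_zpowers]; exact hcomm
  · rw [inter_centralizer_zpowers]; exact hsup
  · rw [inter_centralizer_zpowers]; exact hsym.iso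

end M23

end Cfsg.Lib.ThreeTr
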