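import Cfsg.Agent.ThreeTransposition.M23Count.Planes

/-!
The centraliser of a member is generated by the members commuting with it, once this holds one level down, the
member lies in that group and every plane has a member over it.
-/

set_option autoImplicit false
set_option linter.unusedSectionVars false
set_option linter.style.haveILetI false

namespace Cfsg.Lib.ThreeTr

open Cfsg Subgroup

attribute [local instance] _root_.Classical.propDecidable

universe u

variable {G : Type u} [Group G] {D : Set G}

/-- A tower whose remaining parameters are known. -/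
structure Full (D : Set G) (N k l l' m m' m'' : ℕ) : Prop where
  tower : Tower D k l l' m' m''
  card : D.ncard = N
  nonadj : ∀ p ∈ D, ∀ x ∈ D, ¬ Commute p x → (perp D p ∩ perp D x).ncard = m
  spread : m' + 1 < m
  roomy : 4 * (k + 1) < N
  plane : ∀ a ∈ D, ∀ c ∈ D, ∀ e ∈ D, ¬ Commute a c → ¬ Commute e a → ¬ Commute e c → ¬ Commute e (a * c * a) →
    ∃ f ∈ D, Commute f a ∧ Commute f c ∧ Commute f e

/-- The group generated by `perp D p` contains `p`, and fixing `x` there means lying in the common neighbourhood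
group, up to an element commuting with all of `perp D p`. -/
structure Solid (D : Set G) (N k l l' m m' m'' : ℕ) : Prop where
  full : Full D N k l l' m m' m''
  self_mem : ∀ p ∈ D, p ∈ closure (perp D p)
  stab : ∀ p ∈ D, ∀ x ∈ perp D p, ∀ g ∈ closure (perp D p), Commute g x →
    ∃ k ∈ closure (perp D p ∩ perp D x), ∃ z : G, (∀ e ∈ perp D p, Commute e z) ∧
      z ∈ closure (perp D p) ∧ g = k * z

namespace Full

variable [Finite G] {N k l l' m m' m'' : ℕ} (h : Full D N k l l' m m' m'')
include h

theorem cls : IsThreeTranspositionClass D := h.tower.rich.cls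

theorem m_pos {a c : G} (ha : a ∈ D) (hc : c ∈ D) (hac : ¬ Commute a c) : (perp D a ∩ perp D c).Nonempty :=
  Set.nonempty_of_ncard_ne_zero (by rw [h.nonadj a ha c hc hac]; have := h.spread; omega)

theorem exists_far {a c : G} (ha : a ∈ D) (hc : c ∈ D) (hac : ¬ Commute a c) {f : G}
    (hf : f ∈ perp D a ∩ perp D c) : ∃ g ∈ perp D a ∩ perp D c, ¬ Commute g f := by
  have h1 := h.tower.inner_degree ha hc hac hf
  have h3 : (nb D a ∩ nb D c).card = m := h.tower.card_inter.trans (h.nonadj a ha c hc hac)
  obtain ⟨g, hg, hgn⟩ := Finset.exists_mem_notMem_of_card_lt_card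
    (show ((nb D a ∩ nb D c).filter fun g => Commute g f).card < (nb D a ∩ nb D c).card by
      have := h.spread; omega)
  exact ⟨g, by simpa [Finset.mem_inter, mem_nb] using hg, fun hcm => hgn (Finset.mem_filter.2 ⟨hg, hcm⟩)⟩

/-- Only the three members of a line commute with all common neighbours of two of them. -/
theorem double {x y w : G} (hx : x ∈ D) (hy : y ∈ D) (hxy : ¬ Commute x y) (hw : w ∈ D)
    (hall : ∀ z ∈ D, Commute z x → Commute z y → Commute z w) : w = x ∨ w = y ∨ w = x * y * x := by
  obtain ⟨f, hf⟩ := h.m_pos hx hy hxy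
  have hxf : x ∈ perp D f := ⟨hx, hf.1.2.1.symm, hf.1.2.2.symm⟩
  have hyf : y ∈ perp D f := ⟨hy, hf.2.2.1.symm, hf.2.2.2.symm⟩
  have hwne : w ≠ f := fun e => by
    obtain ⟨g, hg, hgf⟩ := h.exists_far hx hy hxy hf
    exact hgf (e ▸ hall g hg.1.1 hg.1.2.2.symm hg.2.2.2.symm)
  exact h.tower.double' f hf.1.1 x hxf y hyf hxy w
    ⟨hw, hwne, hall f hf.1.1 hf.1.2.2.symm hf.2.2.2.symm⟩ fun z hz => hall z hz.1

/-- The parameters one level up. -/
theorem level : Level D N k l m m' :=
  ⟨h.card, h.tower.deg, h.tower.adj, h.nonadj, h.tower.tri_non, fun _ hx _ hy hxy _ hw => h.double hx hy hxy hw⟩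

theorem commute_other {y y' p : G} (hy' : y' ∈ D) (hp : p ∈ D) (hpy : ¬ Commute p y') (h1 : Commute y y')
    (h2 : Commute y (p * y' * p)) : Commute y p := by
  have hE := h.cls.1
  have e : p = y' * (p * y' * p) * y' := by
    rw [braid hE hp hy' hpy]
    calc p = (y' * y') * p * (y' * y') := by rw [sq_eq_one hE hy', one_mul, mul_one]
      _ = _ := by simp only [mul_assoc]
  rw [e]
  exact (h1.mul_right h2).mul_right h1

/-- Members with the same trace on a common neighbourhood. -/
theorem eq_or_eq_of_trace {p c c' : G} (hp : p ∈ D) (hc : c ∈ D) (hc' : c' ∈ D) (hpc : ¬ Commute p c)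
    (hpc' : ¬ Commute p c') (htr : ∀ e ∈ perp D p, Commute e c → Commute e c') : c' = c ∨ c' = p * c * p := by
  rcases h.double hp hc hpc hc' (fun z hz h1 h2 => htr z ⟨hz, fun e => hpc (e ▸ h2), h1.symm⟩ h2) with e | e | e
  · exact absurd (e ▸ Commute.refl p) hpc'
  · exact Or.inl e
  · exact Or.inr e

theorem exists_noncomm {p : G} (hp : p ∈ D) : ∃ c ∈ D, ¬ Commute p c :=
  exists_not_commute h.cls h.tower.rich.two hp

/-- Only `1` and `p` centralise `p` and everything commuting with it. -/
theorem eq_one_or_self {p z : G} (hp : p ∈ D) (hzp : Commute p z) (hz : ∀ e ∈ perp D p, Commute e z) :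
    z = 1 ∨ z = p := by
  have hE := h.cls.1
  have hp2 := sq_eq_one hE hp
  obtain ⟨c, hc, hpc⟩ := h.exists_noncomm hp
  have htr : ∀ {w : G}, Commute p w → (∀ e ∈ perp D p, Commute e w) → ∀ y ∈ D, ¬ Commute p y →
      w * y * w⁻¹ = y ∨ w * y * w⁻¹ = p * y * p := by
    intro w hwp hw y hy hpy
    refine h.eq_or_eq_of_trace hp hy (conj_mem h.cls w hy) hpy (fun h' => hpy ?_) fun e he hey => ?_
    · rw [show p = w * p * w⁻¹ by rw [← hwp.eq, mul_inv_cancel_right]] at h'
      exact (conj_commute_iff w p y).1 h'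
    · rw [show e = w * e * w⁻¹ by rw [← (hw e he).eq, mul_inv_cancel_right]]
      exact (conj_commute_iff w e y).2 hey
  -- a modification fixing `c`
  suffices key : ∀ w : G, Commute p w → (∀ e ∈ perp D p, Commute e w) → w * c * w⁻¹ = c → w = 1 by
    rcases htr hzp hz c hc hpc with e | e
    · exact Or.inl (key z hzp hz e)
    · right
      have := key (p * z) ((Commute.refl p).mul_right hzp) (fun x hx => hx.2.2.symm.mul_right (hz x hx)) (by
        rw [mul_inv_rev, inv_eq hE hp]
        calc p * z * c * (z⁻¹ * p) = p * (z * c * z⁻¹) * p := by group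
          _ = (p * p) * c * (p * p) := by rw [e]; simp only [mul_assoc]
          _ = c := by rw [hp2, one_mul, mul_one])
      rw [eq_inv_of_mul_eq_one_right this, inv_eq hE hp]
  intro w hwp hw hwc
  -- fixed members are closed under commuting
  have hstep : ∀ y ∈ D, ¬ Commute p y → w * y * w⁻¹ = y → ∀ y' ∈ D, ¬ Commute p y' → Commute y y' →
      w * y' * w⁻¹ = y' := by
    intro y hy hpy hfix y' hy' hpy' hc'
    refine (htr hwp hw y' hy' hpy').resolve_right fun e => hpy ?_
    have hyy : Commute y (p * y' * p) := by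
      rw [← e, ← hfix]
      exact (conj_commute_iff w y y').2 hc'
    exact (h.commute_other hy' hp hpy' hc' hyy).symm
  have hall : ∀ y ∈ D, ¬ Commute p y → w * y * w⁻¹ = y := by
    intro y hy hpy
    by_cases hcy : Commute c y
    · exact hstep c hc hpc hwc y hy hpy hcy
    by_cases hmid : ∃ k ∈ perp D c ∩ perp D y, ¬ Commute p k
    · obtain ⟨k, hk, hpk⟩ := hmid
      exact hstep k hk.1.1 hpk (hstep c hc hpc hwc k hk.1.1 hpk hk.1.2.2) y hy hpy hk.2.2.2.symm
    push Not at hmid
    obtain ⟨f, hf⟩ := h.m_pos hc hy hcy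
    have hcf : c ∈ perp D f := ⟨hc, hf.1.2.1.symm, hf.1.2.2.symm⟩
    have hyf : y ∈ perp D f := ⟨hy, hf.2.2.1.symm, hf.2.2.2.symm⟩
    have hpf : p ∈ perp D f := ⟨hp, fun e => hpc (e ▸ hf.1.2.2.symm), (hmid f hf).symm⟩
    rcases h.double hc hy hcy hp (fun k hk h1 h2 => (hmid k
      ⟨⟨hk, fun e => hcy (e ▸ h2), h1.symm⟩, hk, fun e => hcy (e ▸ h1).symm, h2.symm⟩).symm) with e | e | e
    · exact absurd (e ▸ Commute.refl p) hpc
    · exact absurd (e ▸ Commute.refl p) hpy
    · have hy_eq : y = p * c * p := by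
        rw [braid hE hp hc hpc, e]
        calc y = (c * c) * y * (c * c) := by rw [sq_eq_one hE hc, one_mul, mul_one]
          _ = _ := by simp only [mul_assoc]
      rw [hy_eq]
      calc w * (p * c * p) * w⁻¹ = (w * p * w⁻¹) * (w * c * w⁻¹) * (w * p * w⁻¹) := by group
        _ = _ := by rw [hwc, ← hwp.eq, mul_inv_cancel_right]
  have hD : ∀ y ∈ D, Commute y w := by
    intro y hy
    by_cases hpy : Commute p y
    · by_cases e : y = p
      · exact e ▸ hwp
      · exact hw y ⟨hy, e, hpy⟩
    · exact (mul_inv_eq_iff_eq_mul.1 (hall y hy hpy)).symm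
  have hle : closure D ≤ centralizer ({w} : Set G) :=
    (closure_le _).2 fun y hy => mem_centralizer_singleton_iff.2 (hD y hy).eq
  have : w ∈ center G := mem_center_iff.2 fun g =>
    mem_centralizer_singleton_iff.1 (hle (h.cls.2.2 ▸ mem_top g))
  rwa [h.tower.center_eq, mem_bot] at this

theorem exists_nonperp₄ (p q r s : G) (hp : p ∈ D) (hq : q ∈ D) (hr : r ∈ D) (hs : s ∈ D) :
    ∃ w ∈ D, ¬ Commute p w ∧ ¬ Commute q w ∧ ¬ Commute r w ∧ ¬ Commute s w := by
  have hcard : (mem' D).card = N := by
    rw [← h.card, Set.ncard_eq_toFinset_card D (Set.toFinite _)]; rfl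
  let A : G → Finset G := fun x => (mem' D).filter fun y => Commute y x
  obtain ⟨w, hw, hwn⟩ := Finset.exists_mem_notMem_of_card_lt_card
    (show (A p ∪ A q ∪ A r ∪ A s).card < (mem' D).card by
      have := h.roomy
      have := Finset.card_union_le (A p ∪ A q ∪ A r) (A s)
      have := Finset.card_union_le (A p ∪ A q) (A r)
      have := Finset.card_union_le (A p) (A q)
      have e1 : (A p).card = k + 1 := h.tower.card_comm hp
      have e2 : (A q).card = k + 1 := h.tower.card_comm hq
      have e3 : (A r).card = k + 1 := h.tower.card_comm hr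
      have e4 : (A s).card = k + 1 := h.tower.card_comm hs
      omega)
  simp only [A, Finset.mem_union, Finset.mem_filter, mem_mem', not_or, not_and] at hwn
  rw [mem_mem'] at hw
  exact ⟨w, hw, fun h' => hwn.1.1.1 hw h'.symm, fun h' => hwn.1.1.2 hw h'.symm, fun h' => hwn.1.2 hw h'.symm,
    fun h' => hwn.2 hw h'.symm⟩

end Full

/-- Elements of the generated group fixing `a` lie in `closure (perp D a)`, given the products in triangles. -/
theorem centralizer_le_of_triangle {D : Set G} (hE : IsThreeTranspositionSet D)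
    (hconj : ∀ (g : G), ∀ x ∈ D, g * x * g⁻¹ ∈ D) (hself : ∀ p ∈ D, p ∈ closure (perp D p))
    (hnp : ∀ p q r s : G, p ∈ D → q ∈ D → r ∈ D → s ∈ D →
      ∃ w ∈ D, ¬ Commute p w ∧ ¬ Commute q w ∧ ¬ Commute r w ∧ ¬ Commute s w)
    (htri : ∀ {u v w : G}, u ∈ D → v ∈ D → w ∈ D → ¬ Commute u v → ¬ Commute u w → ¬ Commute v w →
      ∃ k ∈ closure (perp D u), v * w * (u * v) = u * w * k)
    {a g : G} (ha : a ∈ D) (hg' : g ∈ closure D) (hg : g * a = a * g) : g ∈ closure (perp D a) := by
  set K := closure (perp D a) with hK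
  have hmem : ∀ {a x : G}, a ∈ D → x ∈ D → Commute x a → x ∈ closure (perp D a) := by
    intro a x ha hx hc
    by_cases e : x = a
    · rw [e]; exact hself a ha
    · exact subset_closure ⟨hx, e, hc.symm⟩
  have hcm : ∀ {u t k : G}, k ∈ closure (perp D u) → ∀ {a : G}, t * a * t⁻¹ = u →
      t⁻¹ * k * t ∈ closure (perp D a) := by
    intro u t k hk a ht
    have hle : closure (perp D u) ≤ (closure (perp D a)).comap (MulAut.conj t⁻¹).toMonoidHom := by
      rw [closure_le]
      intro x hx
      have hx' : t⁻¹ * x * t ∈ perp D a := by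
        refine ⟨by simpa using hconj t⁻¹ x hx.1, fun e => hx.2.1 (by rw [← ht, ← e]; group), ?_⟩
        have := (conj_commute_iff t⁻¹ u x).2 hx.2.2
        rw [← ht] at this
        simpa [mul_assoc] using this
      show (MulAut.conj t⁻¹).toMonoidHom x ∈ closure (perp D a)
      simpa using subset_closure (k := perp D a) hx'
    simpa using hle hk
  have hconv : ∀ {y w : G}, y ∈ D → w ∈ D → ¬ Commute a w → ¬ Commute w y →
      w * y * (a * w) * a * (w * y * (a * w))⁻¹ = y := by
    intro y w hy hw haw hwy
    calc w * y * (a * w) * a * (w * y * (a * w))⁻¹ = (w * y) * ((a * w) * a * (a * w)⁻¹) * (w * y)⁻¹ := by group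
      _ = y := by rw [mul_conj_eq hE ha hw haw, mul_conj_eq hE hw hy hwy]
  -- changing the auxiliary member
  have hWD : ∀ {y w w' : G}, y ∈ D → w ∈ D → w' ∈ D → ¬ Commute a w → ¬ Commute w y → ¬ Commute a w' →
      ¬ Commute w' y → (w' * y * (a * w'))⁻¹ * (w * y * (a * w)) ∈ K := by
    have near : ∀ {y w w' : G}, y ∈ D → w ∈ D → w' ∈ D → ¬ Commute a w → ¬ Commute w y → ¬ Commute a w' →
        ¬ Commute w' y → ¬ Commute w w' → (w' * y * (a * w'))⁻¹ * (w * y * (a * w)) ∈ K := by
      intro y w w' hy hw hw' haw hwy haw' hw'y hww'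
      obtain ⟨k₁, hk₁, e₁⟩ := htri hw hw' hy hww' hwy hw'y
      obtain ⟨k₂, hk₂, e₂⟩ := htri ha hw hw' haw haw' hww'
      have e1' : w * y = w' * y * (w * w') * k₁⁻¹ := by rw [e₁, mul_inv_cancel_right]
      have : (w' * y * (a * w'))⁻¹ * (w * y * (a * w)) = k₂ * ((a * w)⁻¹ * k₁⁻¹ * (a * w)) := by
        calc (w' * y * (a * w'))⁻¹ * (w * y * (a * w))
            = (a * w')⁻¹ * ((w * w') * (a * w)) * ((a * w)⁻¹ * k₁⁻¹ * (a * w)) := by rw [e1']; group
          _ = _ := by rw [e₂, inv_mul_cancel_left]
      rw [this]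
      exact mul_mem hk₂ (hcm (inv_mem hk₁) (mul_conj_eq hE ha hw haw))
    intro y w w' hy hw hw' haw hwy haw' hw'y
    obtain ⟨v, hv, h1, h2, h3, h4⟩ := hnp a y w w' ha hy hw hw'
    have := mul_mem (near hy hv hw' h1 (fun e => h2 e.symm) haw' hw'y fun e => h4 e.symm)
      (near hy hw hv haw hwy h1 (fun e => h2 e.symm) h3)
    rwa [mul_assoc, mul_inv_cancel_left] at this
  set Good : G → Prop := fun g => ∀ w ∈ D, ¬ Commute a w → ¬ Commute w (g * a * g⁻¹) →
    (w * (g * a * g⁻¹) * (a * w))⁻¹ * g ∈ K with hGood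
  have hbase : ∀ w ∈ D, w * a * (a * w) = (1 : G) := fun w hw => by
    calc w * a * (a * w) = w * (a * a) * w := by simp only [mul_assoc]
      _ = 1 := by rw [sq_eq_one hE ha, mul_one, sq_eq_one hE hw]
  have hone : Good 1 := by
    intro w hw haw hwy
    rw [one_mul, inv_one, mul_one, mul_one, hbase w hw, inv_one]
    exact one_mem _
  have hstep : ∀ x ∈ D, ∀ g : G, Good g → Good (x * g) := by
    intro x hx g hg
    set y := g * a * g⁻¹ with hy
    have hyD : y ∈ D := hconj g _ ha
    have hy' : x * g * a * (x * g)⁻¹ = x * y * x := by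
      calc x * g * a * (x * g)⁻¹ = x * (g * a * g⁻¹) * x⁻¹ := by group
        _ = x * y * x := by rw [inv_eq hE hx]
    intro w hw haw hwy
    rw [hy'] at hwy ⊢
    by_cases hxy : Commute x y
    · have e : x * y * x = y := by rw [hxy.eq, mul_assoc, sq_eq_one hE hx, mul_one]
      rw [e] at hwy ⊢
      have ht := hconv hyD hw haw hwy
      set t := w * y * (a * w) with htdef
      have hxt : t⁻¹ * x * t ∈ K := by
        refine hmem ha (by simpa using hconj t⁻¹ _ hx) ?_
        have h2 := (conj_commute_iff t⁻¹ x y).2 hxy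
        rwa [show t⁻¹ * y * t⁻¹⁻¹ = a by rw [← ht]; group, inv_inv] at h2
      have := mul_mem hxt (hg w hw haw hwy)
      rwa [show t⁻¹ * x * t * (t⁻¹ * g) = t⁻¹ * (x * g) by group] at this
    · set y' := x * y * x with hy'def
      have hy'D : y' ∈ D := by rw [hy'def]; simpa [inv_eq hE hx] using hconj x _ hyD
      obtain ⟨v, hv, h1, h2, h3, -⟩ := hnp a y y' w ha hyD hy'D hw
      have hvy : ¬ Commute v y := fun e => h2 e.symm
      have hvy' : ¬ Commute v y' := fun e => h3 e.symm
      have hyy' : ¬ Commute y y' := by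
        rw [hy'def, braid hE hx hyD hxy]
        exact not_commute_third hE hyD hx fun e => hxy e.symm
      obtain ⟨k, hk, e⟩ := htri hv hyD hy'D hvy hvy' hyy'
      have hgv := hg v hv h1 hvy
      set t := v * y * (a * v)
      have hx_eq : x = y * y' * y := by
        rw [hy'def, braid hE hx hyD hxy]
        calc x = (y * y) * x * (y * y) := by rw [sq_eq_one hE hyD, one_mul, mul_one]
          _ = _ := by simp only [mul_assoc]
      have hconj : (v * y)⁻¹ * y * (v * y) = v := by
        have := mul_conj_eq hE hv hyD hvy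
        calc (v * y)⁻¹ * y * (v * y) = (v * y)⁻¹ * ((v * y) * v * (v * y)⁻¹) * (v * y) := by rw [this]
          _ = v := by group
      have hxv : x * (v * y) = v * y' * (k * v) := by
        calc x * (v * y) = y * y' * (v * y) * ((v * y)⁻¹ * y * (v * y)) := by rw [hx_eq]; group
          _ = _ := by rw [hconj, e]; simp only [mul_assoc]
      have hmain : (v * y' * (a * v))⁻¹ * (x * g) ∈ K := by
        have h5 := mul_mem (hcm (mul_mem hk (hself v hv)) (mul_conj_eq hE ha hv h1)) hgv
        have : (v * y' * (a * v))⁻¹ * (x * g) = (a * v)⁻¹ * (k * v) * (a * v) * (t⁻¹ * g) := by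
          calc (v * y' * (a * v))⁻¹ * (x * g)
              = (a * v)⁻¹ * ((v * y')⁻¹ * (x * (v * y))) * ((v * y)⁻¹ * g) := by group
            _ = (a * v)⁻¹ * (k * v) * ((v * y)⁻¹ * g) := by rw [hxv, inv_mul_cancel_left]
            _ = _ := by simp only [t]; group
        rw [this]; exact h5
      have := mul_mem (hWD hy'D hv hw h1 hvy' haw hwy) hmain
      rwa [show (w * y' * (a * w))⁻¹ * (v * y' * (a * v)) * ((v * y' * (a * v))⁻¹ * (x * g)) =
        (w * y' * (a * w))⁻¹ * (x * g) by group] at this
  have hall : Good g := by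
    refine closure_induction_left (s := D) (p := fun g _ => Good g) hone (fun x hx y _ hy => hstep x hx y hy)
      (fun x hx y _ hy => by rw [inv_eq hE hx]; exact hstep x hx y hy) hg'
  have hga : g * a * g⁻¹ = a := by rw [hg, mul_inv_cancel_right]
  obtain ⟨w, hw, haw, -⟩ := hnp a a a a ha ha ha ha
  have := hall w hw haw (by rw [hga]; exact fun e => haw e.symm)
  rwa [hga, hbase w hw, inv_one, one_mul] at this

namespace Solid

variable [Finite G] {N k l l' m m' m'' : ℕ} (h : Solid D N k l l' m m' m'')
include h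

theorem cls : IsThreeTranspositionClass D := h.full.cls

theorem mem_of_commute {a x : G} (ha : a ∈ D) (hx : x ∈ D) (hc : Commute x a) : x ∈ closure (perp D a) := by
  by_cases e : x = a
  · rw [e]; exact h.self_mem a ha
  · exact subset_closure ⟨hx, e, hc.symm⟩

theorem conj_mem_closure_perp {u t k : G} (hk : k ∈ closure (perp D u)) {a : G} (ht : t * a * t⁻¹ = u) :
    t⁻¹ * k * t ∈ closure (perp D a) := by
  have e : (closure (perp D u)).map (MulAut.conj t⁻¹).toMonoidHom = closure (perp D a) := by
    rw [MonoidHom.map_closure, show a = t⁻¹ * u * t⁻¹⁻¹ by rw [← ht]; group, ← conj_image_perp h.cls t⁻¹ u]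
    rfl
  rw [← e]
  exact ⟨k, hk, by simp⟩

/-- Three pairwise noncommuting members. -/
theorem triangle {u v w : G} (hu : u ∈ D) (hv : v ∈ D) (hw : w ∈ D) (huv : ¬ Commute u v) (huw : ¬ Commute u w)
    (hvw : ¬ Commute v w) : ∃ k ∈ closure (perp D u), v * w * (u * v) = u * w * k := by
  have hE := h.cls.1
  have uu := sq_eq_one hE hu
  have vv := sq_eq_one hE hv
  have ww := sq_eq_one hE hw
  refine ⟨w * u * v * w * u * v, ?_, by
    calc v * w * (u * v) = (u * (w * w) * u) * (v * w * (u * v)) := by rw [ww, mul_one, uu, one_mul]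
      _ = _ := by simp only [mul_assoc]⟩
  have hd : u * v * u ∈ D := by simpa [inv_eq hE hu] using conj_mem h.cls u hv
  by_cases hpl : Commute (u * v * u) w
  · by_cases e : w = u * v * u
    · have : w * u * v * w * u * v = 1 := by
        rw [e]
        calc u * v * u * u * v * (u * v * u) * u * v = u * (v * ((u * u) * v)) * (u * (v * ((u * u) * v))) := by
              simp only [mul_assoc]
          _ = 1 := by rw [uu, one_mul, vv, mul_one, uu]
      rw [this]; exact one_mem _
    · have hk : w * u * v * w * u * v = u * (v * w * v) := by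
        calc w * u * v * w * u * v = (w * (u * v * u)) * (u * w * u) * v := by
              simp only [mul_assoc]; rw [← mul_assoc u u, uu, one_mul]
          _ = ((u * v * u) * w) * (u * w * u) * v := by rw [hpl.symm.eq]
          _ = u * v * (u * w * u) * w * u * v := by simp only [mul_assoc]
          _ = u * v * (w * u * w) * w * u * v := by rw [braid hE hu hw huw]
          _ = u * v * w * (u * ((w * w) * u)) * v := by simp only [mul_assoc]
          _ = _ := by rw [ww, one_mul, uu, mul_one]; simp only [mul_assoc]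
      rw [hk]
      refine mul_mem (h.self_mem u hu) (h.mem_of_commute hu ?_ ?_)
      · simpa [inv_eq hE hv] using conj_mem h.cls v hw
      · rw [show v * w * v = v * w * v⁻¹ by rw [inv_eq hE hv],
          show u = v * (u * v * u) * v⁻¹ by
            rw [braid hE hu hv huv, inv_eq hE hv]
            calc u = (v * v) * u * (v * v) := by rw [vv, one_mul, mul_one]
              _ = _ := by simp only [mul_assoc],
          conj_commute_iff]
        exact hpl.symm
  · obtain ⟨f, hfD, hfu, hfv, hfw⟩ := h.full.plane u hu v hv w hw huv (fun h' => huw h'.symm)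
      (fun h' => hvw h'.symm) fun h' => hpl h'.symm
    have hu' : u ∈ perp D f := ⟨hu, fun e => huv (e ▸ hfv), hfu⟩
    have hv' : v ∈ perp D f := ⟨hv, fun e => huv (e ▸ hfu).symm, hfv⟩
    have hw' : w ∈ perp D f := ⟨hw, fun e => huw (e ▸ hfu).symm, hfw⟩
    have mu := subset_closure (k := perp D f) hu'
    have mv := subset_closure (k := perp D f) hv'
    have mw := subset_closure (k := perp D f) hw'
    have hfix : Commute (w * u * v * w * u * v) u := by
      refine mul_inv_eq_iff_eq_mul.1 ?_
      calc w * u * v * w * u * v * u * (w * u * v * w * u * v)⁻¹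
          = (w * u) * ((v * w) * ((u * v) * u * (u * v)⁻¹) * (v * w)⁻¹) * (w * u)⁻¹ := by group
        _ = u := by rw [mul_conj_eq hE hu hv huv, mul_conj_eq hE hv hw hvw, mul_conj_eq hE hw hu fun h' => huw h'.symm]
    obtain ⟨k, hk, z, hz, hzH, e⟩ := h.stab f hfD u hu' _
      (mul_mem (mul_mem (mul_mem (mul_mem (mul_mem mw mu) mv) mw) mu) mv) hfix
    rw [e]
    refine mul_mem ((closure_le (closure (perp D u))).2 ?_ hk) ?_
    · exact fun y hy => h.mem_of_commute hu hy.1.1 hy.2.2.2.symm
    · rcases h.full.eq_one_or_self hfD (closure_perp_commute hzH).symm hz with e | e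
      · rw [e]; exact one_mem _
      · rw [e]; exact h.mem_of_commute hu hfD hfu

/-- The centraliser of a member. -/
theorem centralizer_eq {a : G} (ha : a ∈ D) : centralizer ({a} : Set G) = closure (perp D a) :=
  le_antisymm (fun g hg => centralizer_le_of_triangle h.cls.1 (fun g _ hx => conj_mem h.cls g hx) h.self_mem
    h.full.exists_nonperp₄ h.triangle ha (h.cls.2.2 ▸ mem_top g) (mem_centralizer_singleton_iff.1 hg))
    fun g hg => mem_centralizer_singleton_iff.2 (closure_perp_commute hg).eq

theorem center_closure_perp {a : G} (ha : a ∈ D) :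
    center ↥(closure (perp D a)) = (zpowers a).subgroupOf (closure (perp D a)) := by
  ext z
  rw [mem_subgroupOf, mem_center_iff]
  constructor
  · intro hz
    rcases h.full.eq_one_or_self ha (closure_perp_commute z.2).symm
      (fun e he => congrArg Subtype.val (hz ⟨e, subset_closure he⟩)) with e | e
    · rw [e]; exact one_mem _
    · rw [e]; exact mem_zpowers a
  · rintro hz g
    obtain ⟨n, hn⟩ := mem_zpowers_iff.1 hz
    refine Subtype.ext ?_
    show (g : G) * z = z * g
    rw [← hn]
    exact ((closure_perp_commute g.2).zpow_right n).eq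

theorem card_center_closure_perp {a : G} (ha : a ∈ D) : Nat.card (center ↥(closure (perp D a))) = 2 := by
  rw [h.center_closure_perp ha, Nat.card_congr (subgroupOfEquivOfLe (zpowers_le.2 (h.self_mem a ha))).toEquiv,
    Nat.card_zpowers, h.cls.1.1 a ha]

theorem card_group {a : G} (ha : a ∈ D) :
    Nat.card G = N * (Nat.card (↥(closure (perp D a)) ⧸ center ↥(closure (perp D a))) * 2) := by
  haveI : Finite (ConjAct G) := Finite.of_equiv _ ConjAct.toConjAct.toEquiv
  have horb : MulAction.orbit (ConjAct G) a = D := by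
    ext x
    rw [ConjAct.mem_orbit_conjAct, isConj_comm, isConj_iff]
    exact ⟨fun ⟨g, hg⟩ => hg ▸ conj_mem h.cls g ha, fun hx => exists_conj h.cls ha hx⟩
  have h1 := MulAction.index_stabilizer (ConjAct G) a
  rw [horb, h.full.card] at h1
  have h2 : Nat.card ↥(MulAction.stabilizer (ConjAct G) a) =
      Nat.card (↥(closure (perp D a)) ⧸ center ↥(closure (perp D a))) * 2 := by
    rw [← h.card_center_closure_perp ha, ← Subgroup.card_eq_card_quotient_mul_card_subgroup,
      ← h.centralizer_eq ha]
    exact Nat.card_congr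
      { toFun := fun g => ⟨ConjAct.ofConjAct g.1, mem_centralizer_singleton_iff.2 (by
          have := g.2
          rw [MulAction.mem_stabilizer_iff, ConjAct.smul_def] at this
          exact mul_inv_eq_iff_eq_mul.1 this)⟩
        invFun := fun g => ⟨ConjAct.toConjAct g.1, by
          rw [MulAction.mem_stabilizer_iff, ConjAct.smul_def, ConjAct.ofConjAct_toConjAct,
            mem_centralizer_singleton_iff.1 g.2, mul_inv_cancel_right]⟩
        left_inv := fun _ => rfl
        right_inv := fun _ => rfl }
  rw [Nat.card_congr ConjAct.toConjAct.toEquiv, ← Subgroup.card_mul_index (MulAction.stabilizer (ConjAct G) a), h1, h2,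
    mul_comm]

end Solid

end Cfsg.Lib.ThreeTr
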