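import Cfsg.Agent.ThreeTransposition.M23Count.Counts

/-!
When the numbers fit, every plane has the same number of members commuting with all nine of its points: the first
two moments of that number over the members off a line are determined by the parameters.
-/

set_option autoImplicit false
set_option linter.unusedSectionVars false
set_option linter.style.haveILetI false

namespace Cfsg.Lib.ThreeTr

open Cfsg Subgroup

attribute [local instance] _root_.Classical.propDecidable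

universe u

variable {G : Type u} [Group G] {D : Set G}

theorem line_distinct (hE : IsThreeTranspositionSet D) {a c : G} (ha : a ∈ D) (hc : c ∈ D) (hac : ¬ Commute a c) :
    ∀ x y : Fin 3, x ≠ y → ¬ Commute (![a, c, a * c * a] x) (![a, c, a * c * a] y) := by
  have n1 := not_commute_third hE ha hc hac
  have n2 : ¬ Commute c (a * c * a) := by
    rw [third_eq hE ha hc hac]; exact not_commute_third hE hc ha fun h' => hac h'.symm
  have n3 : ¬ Commute c a := fun h' => hac h'.symm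
  have n4 : ¬ Commute (a * c * a) a := fun h' => n1 h'.symm
  have n5 : ¬ Commute (a * c * a) c := fun h' => n2 h'.symm
  intro x y hxy
  fin_cases x <;> fin_cases y <;> simp_all

theorem line_pair_iff (hE : IsThreeTranspositionSet D) {a c z : G} (ha : a ∈ D) (hc : c ∈ D) (hac : ¬ Commute a c) :
    ∀ x y : Fin 3, x ≠ y → (Commute z (![a, c, a * c * a] x) ∧ Commute z (![a, c, a * c * a] y) ↔
      Commute z a ∧ Commute z c) := by
  have ha2 := sq_eq_one hE ha
  have hc2 := sq_eq_one hE hc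
  have e1 : c = a * (a * c * a) * a := by
    calc c = (a * a) * c * (a * a) := by rw [ha2, one_mul, mul_one]
      _ = _ := by simp only [mul_assoc]
  have e2 : a = c * (a * c * a) * c := by
    rw [third_eq hE ha hc hac]
    calc a = (c * c) * a * (c * c) := by rw [hc2, one_mul, mul_one]
      _ = _ := by simp only [mul_assoc]
  have h02 : Commute z a → Commute z (a * c * a) → Commute z c := fun h0 h2 =>
    e1 ▸ (h0.mul_right h2).mul_right h0
  have h12 : Commute z c → Commute z (a * c * a) → Commute z a := fun h1 h2 =>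
    e2 ▸ (h1.mul_right h2).mul_right h1
  have h01 : Commute z a → Commute z c → Commute z (a * c * a) := fun h0 h1 => commute_third hE h0 h1
  intro x y hxy
  fin_cases x <;> fin_cases y <;> first
    | exact absurd rfl hxy
    | (simp only [Fin.zero_eta, Fin.mk_one, Fin.reduceFinMk, Matrix.cons_val_zero, Matrix.cons_val_one,
        Matrix.cons_val] <;> tauto)

namespace Tower

variable [Finite G] {k l l' m' m'' : ℕ} (T : Tower D k l l' m' m'') {a c : G} (ha : a ∈ D) (hc : c ∈ D)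
  (hac : ¬ Commute a c)
include T ha hc hac

theorem line_mem {p : G} (hap : a ∈ perp D p) (hcp : c ∈ perp D p) :
    ∀ x : Fin 3, ![a, c, a * c * a] x ∈ perp D p := by
  have hd : a * c * a ∈ perp D p := by
    have := conj_mem_perp (fun g d hd => conj_mem T.rich.cls g hd) (subset_closure hap) hcp
    rwa [inv_eq T.rich.cls.1 ha] at this
  intro x; fin_cases x <;> simp [hap, hcp, hd]

/-- The members off a line. -/
theorem line_off : 3 * ((mem' D).filter fun e => ¬ Commute e a ∧ ¬ Commute e c ∧ ¬ Commute e (a * c * a)).card +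
      9 * (k + 1) = 3 * D.ncard + 6 * (perp D a ∩ perp D c).ncard := by
  have hd : a * c * a ∈ D := by simpa [inv_eq T.rich.cls.1 ha] using conj_mem T.rich.cls a hc
  have hl : ∀ x : Fin 3, ![a, c, a * c * a] x ∈ D := by
    intro x; fin_cases x <;> simp [ha, hc, hd]
  have hnc := line_distinct T.rich.cls.1 ha hc hac
  rw [Set.ncard_eq_toFinset_card D (Set.toFinite _), show (Set.toFinite D).toFinset = mem' D from rfl]
  exact line_zero T.rich.cls.1 ha hc hac (mem' D) (fun x => T.card_comm (hl x)) fun x y hxy => by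
    rw [T.common_pair (hnc x y hxy)]
    exact T.inter_card_const (hl x) (hl y) (hnc x y hxy) ha hc hac

/-- Of the neighbours of a common neighbour, those off the line. -/
theorem line_off_nb {f : G} (hf : f ∈ perp D a ∩ perp D c) :
    3 * ((nb D f).filter fun e => ¬ Commute e a ∧ ¬ Commute e c ∧ ¬ Commute e (a * c * a)).card + 9 * (l + 1) =
      3 * k + 6 * m' := by
  have hl := T.line_mem ha hc hac (p := f) ⟨ha, hf.1.2.1.symm, hf.1.2.2.symm⟩ ⟨hc, hf.2.2.1.symm, hf.2.2.2.symm⟩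
  have hnc := line_distinct T.rich.cls.1 ha hc hac
  have := line_zero T.rich.cls.1 ha hc hac (nb D f) (fun x => T.nb_one hf.1.1 (hl x)) fun x y hxy =>
    T.nb_pair hf.1.1 (hl x) (hl y) (hnc x y hxy)
  rwa [T.card_nb hf.1.1] at this

/-- The same over two commuting common neighbours. -/
theorem line_off_two {f g : G} (hf : f ∈ perp D a ∩ perp D c) (hg : g ∈ perp D a ∩ perp D c) (hne : g ≠ f)
    (hfg : Commute f g) :
    3 * ((nb D f ∩ nb D g).filter fun e => ¬ Commute e a ∧ ¬ Commute e c ∧ ¬ Commute e (a * c * a)).card +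
      9 * (l' + 1) = 3 * l + 6 * m'' := by
  have hgf : g ∈ perp D f := ⟨hg.1.1, hne, hfg⟩
  have hlf := T.line_mem ha hc hac (p := f) ⟨ha, hf.1.2.1.symm, hf.1.2.2.symm⟩ ⟨hc, hf.2.2.1.symm, hf.2.2.2.symm⟩
  have hlg := T.line_mem ha hc hac (p := g) ⟨ha, hg.1.2.1.symm, hg.1.2.2.symm⟩ ⟨hc, hg.2.2.1.symm, hg.2.2.2.symm⟩
  have hnc := line_distinct T.rich.cls.1 ha hc hac
  have h1 : ∀ x : Fin 3, ((nb D f ∩ nb D g).filter fun h => Commute h (![a, c, a * c * a] x)).card = l' + 1 := by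
    intro x
    set u := ![a, c, a * c * a] x
    have e : (nb D f ∩ nb D g).filter (fun h => Commute h u) =
        insert u ((nb D f).filter fun h => h ∈ perp D g ∩ perp D u) := by
      ext h
      simp only [Finset.mem_filter, Finset.mem_inter, Finset.mem_insert, mem_nb]
      constructor
      · rintro ⟨⟨h1, h2⟩, h3⟩
        by_cases e : h = u
        · exact Or.inl e
        · exact Or.inr ⟨h1, h2, h1.1, e, h3.symm⟩
      · rintro (rfl | ⟨h1, h2, h3⟩)
        · exact ⟨⟨hlf x, hlg x⟩, Commute.refl _⟩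
        · exact ⟨⟨h1, h2⟩, h3.2.2.symm⟩
    rw [e, Finset.card_insert_of_notMem (fun h => (Finset.mem_filter.1 h).2.2.2.1 rfl),
      card_filter_inter f _ (perp D f ∩ perp D g ∩ perp D u) (fun z => ⟨fun h => ⟨h.1.1, h.1.2, h.2⟩,
        fun h => ⟨⟨h.1, h.2.1⟩, h.2.2⟩⟩), T.tri_adj f hf.1.1 g hgf u ⟨hlf x, hlg x⟩]
  have h2 : ∀ x y : Fin 3, x ≠ y → ((nb D f ∩ nb D g).filter fun h =>
      Commute h (![a, c, a * c * a] x) ∧ Commute h (![a, c, a * c * a] y)).card = m'' := by
    intro x y hxy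
    rw [← T.quad_non f hf.1.1 g hgf _ ⟨hlf x, hlg x⟩ _ ⟨hlf y, hlg y⟩ (hnc x y hxy), ← Set.ncard_coe_finset]
    congr 1
    ext h
    simp only [Finset.coe_filter, Finset.mem_inter, mem_nb, Set.mem_ofPred_eq, Set.mem_inter_iff]
    constructor
    · rintro ⟨⟨h1, h2⟩, h3, h4⟩
      exact ⟨⟨⟨h1, h2⟩, h1.1, fun e => hnc x y hxy (e ▸ h4), h3.symm⟩, h1.1,
        fun e => hnc x y hxy (e ▸ h3).symm, h4.symm⟩
    · rintro ⟨⟨⟨h1, h2⟩, h3⟩, h4⟩
      exact ⟨⟨h1, h2⟩, h3.2.2.symm, h4.2.2.symm⟩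
  have := line_zero T.rich.cls.1 ha hc hac (nb D f ∩ nb D g) h1 h2
  rwa [T.card_inter, T.adj f hf.1.1 g hgf] at this

/-- The same over two noncommuting common neighbours, through their common neighbours in the neighbourhood. -/
theorem line_off_pair {f g : G} (hf : f ∈ perp D a ∩ perp D c) (hg : g ∈ perp D a ∩ perp D c) (hfg : ¬ Commute f g) :
    3 * ((nb D f ∩ nb D g).filter fun e => ¬ Commute e a ∧ ¬ Commute e c ∧ ¬ Commute e (a * c * a)).card +
      9 * (m' + 1) = 3 * (perp D a ∩ perp D c).ncard +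
        6 * ((nb D a ∩ nb D c).filter fun h => Commute h f ∧ Commute h g).card := by
  have hlf := T.line_mem ha hc hac (p := f) ⟨ha, hf.1.2.1.symm, hf.1.2.2.symm⟩ ⟨hc, hf.2.2.1.symm, hf.2.2.2.symm⟩
  have hlg := T.line_mem ha hc hac (p := g) ⟨ha, hg.1.2.1.symm, hg.1.2.2.symm⟩ ⟨hc, hg.2.2.1.symm, hg.2.2.2.symm⟩
  have h2 : ∀ x y : Fin 3, x ≠ y → ((nb D f ∩ nb D g).filter fun h =>
      Commute h (![a, c, a * c * a] x) ∧ Commute h (![a, c, a * c * a] y)).card =
      ((nb D a ∩ nb D c).filter fun h => Commute h f ∧ Commute h g).card := by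
    intro x y hxy
    congr 1
    ext h
    simp only [Finset.mem_filter, Finset.mem_inter, mem_nb, line_pair_iff T.rich.cls.1 ha hc hac x y hxy]
    constructor
    · rintro ⟨⟨h1, h2⟩, h3, h4⟩
      exact ⟨⟨⟨h1.1, fun e => hac (e ▸ h4), h3.symm⟩, h1.1, fun e => hac (e ▸ h3).symm, h4.symm⟩,
        h1.2.2.symm, h2.2.2.symm⟩
    · rintro ⟨⟨h1, h2⟩, h3, h4⟩
      exact ⟨⟨⟨h1.1, fun e => hfg (e ▸ h4), h3.symm⟩, h1.1, fun e => hfg (e ▸ h3).symm, h4.symm⟩,
        h1.2.2.symm, h2.2.2.symm⟩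
  have := line_zero T.rich.cls.1 ha hc hac (nb D f ∩ nb D g)
    (fun x => T.inner_degree hf.1.1 hg.1.1 hfg ⟨⟨(hlf x).1, (hlf x).2.1, (hlf x).2.2⟩, hlg x⟩) h2
  rwa [T.card_inter, T.inter_card_const hf.1.1 hg.1.1 hfg ha hc hac] at this

/-- The noncommuting pairs with a common neighbour in the neighbourhood, counted through that neighbour. -/
theorem pairs_sum :
    (∑ f ∈ nb D a ∩ nb D c, ∑ g ∈ (nb D a ∩ nb D c).filter (fun g => ¬ Commute g f),
      (((nb D a ∩ nb D c).filter fun h => Commute h f ∧ Commute h g).card : ℤ)) =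
      (perp D a ∩ perp D c).ncard * (m' * ((m' : ℤ) - 1 - m'')) := by
  set U := nb D a ∩ nb D c with hU
  have hUD : ∀ f ∈ U, f ∈ perp D a ∩ perp D c := fun f hf => by
    simpa [hU, Finset.mem_inter, mem_nb] using hf
  have e : ∑ f ∈ U, ∑ g ∈ U.filter (fun g => ¬ Commute g f), ((U.filter fun h => Commute h f ∧ Commute h g).card : ℤ) =
      ∑ h ∈ U, ∑ f ∈ U.filter (fun f => Commute h f),
        (((U.filter fun g => Commute h g).filter fun g => ¬ Commute g f).card : ℤ) := by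
    have hf : ∀ f, ∑ g ∈ U.filter (fun g => ¬ Commute g f), ((U.filter fun h => Commute h f ∧ Commute h g).card : ℤ) =
        ∑ h ∈ U.filter (fun h => Commute h f), (((U.filter fun g => Commute h g).filter fun g => ¬ Commute g f).card : ℤ) := by
      intro f
      have ite_sum : ∀ (p : Prop) [Decidable p] (F : G → ℤ),
          (if p then ∑ x ∈ U, F x else 0) = ∑ x ∈ U, if p then F x else 0 := fun p _ F => by split_ifs <;> simp
      simp only [Finset.card_eq_sum_ones, Finset.sum_filter, Nat.cast_sum, Nat.cast_ite, Nat.cast_one, Nat.cast_zero,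
        ite_sum]
      rw [Finset.sum_comm]
      refine Finset.sum_congr rfl fun h _ => Finset.sum_congr rfl fun g _ => ?_
      by_cases h1 : Commute h f <;> by_cases h2 : Commute h g <;> by_cases h3 : Commute g f <;> simp [h1, h2, h3]
    rw [Finset.sum_congr rfl (fun f _ => hf f)]
    simp only [Finset.sum_filter]
    exact Finset.sum_comm
  rw [e, Finset.sum_congr rfl (g := fun _ => (m' : ℤ) * ((m' : ℤ) - 1 - m'')) fun h hh => ?_, Finset.sum_const,
    nsmul_eq_mul, T.card_inter]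
  set S := U.filter fun g => Commute h g with hS
  have hSh : S.card = m' + 1 := by
    rw [← T.inner_degree ha hc hac (hUD h hh)]
    exact congrArg Finset.card (Finset.filter_congr fun g _ => ⟨fun e => e.symm, fun e => e.symm⟩)
  have hhS : h ∈ S := Finset.mem_filter.2 ⟨hh, Commute.refl h⟩
  rw [← Finset.add_sum_erase _ _ hhS, show ((S.filter fun g => ¬ Commute g h).card : ℤ) = 0 by
      rw [Nat.cast_eq_zero, Finset.card_eq_zero, Finset.filter_eq_empty_iff]
      exact fun g hg => not_not.2 (Finset.mem_filter.1 hg).2.symm, zero_add,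
    Finset.sum_congr rfl (g := fun _ => (m' : ℤ) - 1 - m'') fun f hf => ?_, Finset.sum_const,
    Finset.card_erase_of_mem hhS, hSh, nsmul_eq_mul]
  · push_cast; ring
  obtain ⟨hfh, hf⟩ := Finset.mem_erase.1 hf
  obtain ⟨hfU, hhf⟩ := Finset.mem_filter.1 hf
  have hh' := hUD h hh
  have hf' := hUD f hfU
  have hfp : f ∈ perp D h := ⟨hf'.1.1, hfh, hhf⟩
  have e2 : S.filter (fun g => Commute g f) =
      insert h (insert f ((nb D h).filter fun g => g ∈ perp D f ∩ perp D a ∩ perp D c)) := by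
    ext g
    simp only [hS, hU, Finset.mem_filter, Finset.mem_inter, Finset.mem_insert, mem_nb, Set.mem_inter_iff]
    constructor
    · rintro ⟨⟨⟨h1, h2⟩, h3⟩, h4⟩
      by_cases e : g = h
      · exact Or.inl e
      by_cases e' : g = f
      · exact Or.inr (Or.inl e')
      · exact Or.inr (Or.inr ⟨⟨h1.1, e, h3⟩, ⟨⟨h1.1, e', h4.symm⟩, h1⟩, h2⟩)
    · rintro (rfl | rfl | ⟨h1, ⟨h2, h3⟩, h4⟩)
      · exact ⟨⟨hh', Commute.refl _⟩, hhf⟩
      · exact ⟨⟨hf', hhf⟩, Commute.refl _⟩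
      · exact ⟨⟨⟨h3, h4⟩, h1.2.2⟩, h2.2.2.symm⟩
  have hha : a ∈ perp D h ∩ perp D f :=
    ⟨⟨ha, hh'.1.2.1.symm, hh'.1.2.2.symm⟩, ha, hf'.1.2.1.symm, hf'.1.2.2.symm⟩
  have hhc : c ∈ perp D h ∩ perp D f :=
    ⟨⟨hc, hh'.2.2.1.symm, hh'.2.2.2.symm⟩, hc, hf'.2.2.1.symm, hf'.2.2.2.symm⟩
  have hc2 : (S.filter fun g => Commute g f).card = m'' + 2 := by
    rw [e2, Finset.card_insert_of_notMem, Finset.card_insert_of_notMem,
      card_filter_inter h _ (perp D h ∩ perp D f ∩ perp D a ∩ perp D c) (fun z => ⟨fun k => ⟨k.1.1.1, ⟨k.1.1.2, k.1.2⟩, k.2⟩,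
        fun k => ⟨⟨⟨k.1, k.2.1.1⟩, k.2.1.2⟩, k.2.2⟩⟩),
      T.quad_non h hh'.1.1 f hfp a hha c hhc hac]
    · exact fun k => (Finset.mem_filter.1 k).2.1.1.2.1 rfl
    · simp only [Finset.mem_insert, Finset.mem_filter]
      rintro (k | ⟨k, -⟩)
      · exact hfh k.symm
      · exact (mem_nb.1 k).2.1 rfl
  have := Finset.card_filter_add_card_filter_not (s := S) (fun g => Commute g f)
  rw [hc2, hSh] at this
  zify at this
  linarith

/-- Every plane has `t₀` members over it. -/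
theorem plane_const {μ : ℕ} (hμ : (perp D a ∩ perp D c).ncard = μ) {t₀ : ℕ}
    (h1 : (μ : ℤ) * (3 * k + 6 * m' - 9 * (l + 1)) = (3 * (D.ncard : ℤ) + 6 * μ - 9 * (k + 1)) * t₀)
    (h2 : (μ : ℤ) * (3 * k + 6 * m' - 9 * (l + 1)) + μ * m' * (3 * l + 6 * m'' - 9 * (l' + 1)) +
      μ * ((μ : ℤ) - (m' + 1)) * (3 * μ - 9 * (m' + 1)) + 6 * μ * (m' * ((m' : ℤ) - 1 - m'')) =
      (3 * (D.ncard : ℤ) + 6 * μ - 9 * (k + 1)) * (t₀ : ℤ) ^ 2)
    {e : G} (he : e ∈ D) (hea : ¬ Commute e a) (hec : ¬ Commute e c) (hed : ¬ Commute e (a * c * a)) :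
    ((mem' D).filter fun x => Commute x a ∧ Commute x c ∧ Commute x e).card = t₀ := by
  set Z := (mem' D).filter (fun e => ¬ Commute e a ∧ ¬ Commute e c ∧ ¬ Commute e (a * c * a)) with hZ
  set U := nb D a ∩ nb D c with hU
  let t : G → ℕ := fun x => (U.filter fun h => Commute x h).card
  have hUD : ∀ f ∈ U, f ∈ perp D a ∩ perp D c := fun f hf => by
    simpa [hU, Finset.mem_inter, mem_nb] using hf
  have hUc : U.card = μ := by rw [hU, T.card_inter, hμ]
  have n0 : 3 * (Z.card : ℤ) = 3 * (D.ncard : ℤ) + 6 * μ - 9 * (k + 1) := by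
    have := T.line_off ha hc hac
    rw [hμ] at this
    zify at this
    linarith
  have hone : ∀ f ∈ U, 3 * ((Z.filter fun x => Commute x f).card : ℤ) = 3 * k + 6 * m' - 9 * (l + 1) := by
    intro f hf
    have hf' := hUD f hf
    have := T.line_off_nb ha hc hac hf'
    rw [show (nb D f).filter (fun e => ¬ Commute e a ∧ ¬ Commute e c ∧ ¬ Commute e (a * c * a)) =
        Z.filter fun x => Commute x f by
      ext x
      simp only [hZ, Finset.mem_filter, mem_nb, mem_mem']
      exact ⟨fun ⟨h, h'⟩ => ⟨⟨h.1, h'⟩, h.2.2.symm⟩,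
        fun ⟨⟨h, h'⟩, h''⟩ => ⟨⟨h, fun k => h'.1 (k ▸ hf'.1.2.2.symm), h''.symm⟩, h'⟩⟩] at this
    zify at this
    linarith
  have htwo : ∀ f ∈ U, ∀ g ∈ U, (Z.filter fun x => Commute x f ∧ Commute x g) =
      (nb D f ∩ nb D g).filter fun e => ¬ Commute e a ∧ ¬ Commute e c ∧ ¬ Commute e (a * c * a) := by
    intro f hf g hg
    ext x
    simp only [hZ, Finset.mem_filter, Finset.mem_inter, mem_nb, mem_mem']
    exact ⟨fun ⟨⟨h, h'⟩, h1, h2⟩ => ⟨⟨⟨h, fun k => h'.1 (k ▸ (hUD f hf).1.2.2.symm), h1.symm⟩,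
        h, fun k => h'.1 (k ▸ (hUD g hg).1.2.2.symm), h2.symm⟩, h'⟩,
      fun ⟨⟨h1, h2⟩, h'⟩ => ⟨⟨h1.1, h'⟩, h1.2.2.symm, h2.2.2.symm⟩⟩
  have s1 : 3 * ∑ x ∈ Z, (t x : ℤ) = μ * (3 * k + 6 * m' - 9 * (l + 1)) := by
    rw [← Nat.cast_sum, show ∑ x ∈ Z, t x = ∑ f ∈ U, (Z.filter fun x => Commute x f).card from
      mul_card_filter_comm Z U fun x h => Commute x h, Nat.cast_sum, Finset.mul_sum,
      Finset.sum_congr rfl hone, Finset.sum_const, hUc, nsmul_eq_mul]
  have s2 : 3 * ∑ x ∈ Z, (t x : ℤ) ^ 2 =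
      μ * (3 * k + 6 * m' - 9 * (l + 1)) + μ * m' * (3 * l + 6 * m'' - 9 * (l' + 1)) +
      μ * ((μ : ℤ) - (m' + 1)) * (3 * μ - 9 * (m' + 1)) + 6 * μ * (m' * ((m' : ℤ) - 1 - m'')) := by
    have key : ∑ x ∈ Z, (t x : ℤ) ^ 2 =
        ∑ f ∈ U, ∑ g ∈ U, ((Z.filter fun x => Commute x f ∧ Commute x g).card : ℤ) := by
      simp only [t, Finset.card_eq_sum_ones, Finset.sum_filter, Nat.cast_sum, Nat.cast_ite, Nat.cast_one,
        Nat.cast_zero, sq, Finset.sum_mul, Finset.mul_sum, ite_mul, one_mul, zero_mul, ← ite_and]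
      rw [Finset.sum_comm]
      refine Finset.sum_congr rfl fun x _ => ?_
      rw [Finset.sum_comm]
      refine Finset.sum_congr rfl fun y _ => Finset.sum_congr rfl fun h _ => ?_
      by_cases h1 : Commute h x <;> by_cases h2 : Commute h y <;> simp [h1, h2]
    rw [key, Finset.mul_sum]
    have hrow : ∀ f ∈ U, 3 * ∑ g ∈ U, ((Z.filter fun x => Commute x f ∧ Commute x g).card : ℤ) =
        (3 * k + 6 * m' - 9 * (l + 1)) + m' * (3 * l + 6 * m'' - 9 * (l' + 1)) +
        ((μ : ℤ) - (m' + 1)) * (3 * μ - 9 * (m' + 1)) +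
        6 * ∑ g ∈ U.filter (fun g => ¬ Commute g f), ((U.filter fun h => Commute h f ∧ Commute h g).card : ℤ) := by
      intro f hf
      have hf' := hUD f hf
      have hfm : f ∈ U.filter fun g => Commute g f := Finset.mem_filter.2 ⟨hf, Commute.refl f⟩
      have hdeg : (U.filter fun g => Commute g f).card = m' + 1 := T.inner_degree ha hc hac hf'
      have hnot : ((U.filter fun g => ¬ Commute g f).card : ℤ) = μ - (m' + 1) := by
        have := Finset.card_filter_add_card_filter_not (s := U) (fun g => Commute g f)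
        rw [hdeg, hUc] at this
        rw [← this]; push_cast; ring
      rw [Finset.mul_sum, ← Finset.sum_filter_add_sum_filter_not U (fun g => Commute g f),
        ← Finset.add_sum_erase _ _ hfm]
      have e0 : 3 * ((Z.filter fun x => Commute x f ∧ Commute x f).card : ℤ) = 3 * k + 6 * m' - 9 * (l + 1) := by
        rw [← hone f hf]
        simp only [and_self]
      have e1 : ∀ g ∈ (U.filter fun g => Commute g f).erase f,
          3 * ((Z.filter fun x => Commute x f ∧ Commute x g).card : ℤ) = 3 * l + 6 * m'' - 9 * (l' + 1) := by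
        intro g hg
        obtain ⟨hne, hg⟩ := Finset.mem_erase.1 hg
        obtain ⟨hgU, hgf⟩ := Finset.mem_filter.1 hg
        have := T.line_off_two ha hc hac hf' (hUD g hgU) hne hgf.symm
        rw [← htwo f hf g hgU] at this
        zify at this
        linarith
      have e2 : ∀ g ∈ U.filter (fun g => ¬ Commute g f),
          3 * ((Z.filter fun x => Commute x f ∧ Commute x g).card : ℤ) =
            (3 * μ - 9 * (m' + 1)) + 6 * ((U.filter fun h => Commute h f ∧ Commute h g).card : ℤ) := by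
        intro g hg
        obtain ⟨hgU, hgf⟩ := Finset.mem_filter.1 hg
        have := T.line_off_pair ha hc hac hf' (hUD g hgU) fun k => hgf k.symm
        rw [← htwo f hf g hgU, hμ, ← hU] at this
        zify at this
        linarith
      rw [e0, Finset.sum_congr rfl e1, Finset.sum_congr rfl e2, Finset.sum_add_distrib, Finset.sum_const,
        Finset.sum_const, Finset.card_erase_of_mem hfm, hdeg, nsmul_eq_mul, nsmul_eq_mul, hnot, Finset.mul_sum]
      push_cast
      ring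
    rw [Finset.sum_congr rfl hrow, Finset.sum_add_distrib, Finset.sum_const, hUc, nsmul_eq_mul, ← Finset.mul_sum,
      hU, T.pairs_sum ha hc hac, hμ]
    ring
  -- vanishing variance
  have hvar : ∑ x ∈ Z, ((t x : ℤ) - t₀) ^ 2 = 0 := by
    have e : ∑ x ∈ Z, ((t x : ℤ) - t₀) ^ 2 =
        ∑ x ∈ Z, (t x : ℤ) ^ 2 - 2 * (t₀ : ℤ) * ∑ x ∈ Z, (t x : ℤ) + (Z.card : ℤ) * (t₀ : ℤ) ^ 2 := by
      rw [Finset.mul_sum, ← Finset.sum_sub_distrib, show (Z.card : ℤ) * (t₀ : ℤ) ^ 2 = ∑ _x ∈ Z, (t₀ : ℤ) ^ 2 by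
        rw [Finset.sum_const, nsmul_eq_mul], ← Finset.sum_add_distrib]
      exact Finset.sum_congr rfl fun x _ => by ring
    rw [e]
    have h3 : 3 * (∑ x ∈ Z, (t x : ℤ) ^ 2 - 2 * (t₀ : ℤ) * ∑ x ∈ Z, (t x : ℤ) + (Z.card : ℤ) * (t₀ : ℤ) ^ 2) = 0 := by
      linear_combination s2 + h2 - 2 * (t₀ : ℤ) * (s1 + h1) + (t₀ : ℤ) ^ 2 * n0
    linarith
  have heZ : e ∈ Z := Finset.mem_filter.2 ⟨mem_mem'.2 he, hea, hec, hed⟩
  have h0 := (Finset.sum_eq_zero_iff_of_nonneg fun x _ => sq_nonneg _).1 hvar e heZ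
  have hte : t e = t₀ := by exact_mod_cast sub_eq_zero.1 (pow_eq_zero_iff (by norm_num) |>.1 h0)
  rw [← hte]
  congr 1
  ext x
  simp only [hU, Finset.mem_filter, Finset.mem_inter, mem_nb, mem_mem']
  exact ⟨fun ⟨hx, h1, h2, h3⟩ => ⟨⟨⟨hx, fun k => hac (k ▸ h2), h1.symm⟩, hx, fun k => hac (k ▸ h1).symm, h2.symm⟩,
      h3.symm⟩,
    fun ⟨⟨h1, h2⟩, h3⟩ => ⟨h1.1, h1.2.2.symm, h2.2.2.symm, h3.symm⟩⟩

end Tower

end Cfsg.Lib.ThreeTr
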