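import Cfsg.Agent.ThreeTransposition.M23Count.Tower
import Cfsg.Agent.ThreeTransposition.M23Count.SrgTrace

/-!
Counting in a class of 3-transpositions with given neighbourhood parameters: the paths of length two, the trace
condition of the commuting graph, and a window for the common neighbours of noncommuting members.
-/

set_option autoImplicit false
set_option linter.unusedSectionVars false
set_option linter.style.haveILetI false

namespace Cfsg.Lib.ThreeTr

open Cfsg Subgroup

attribute [local instance] _root_.Classical.propDecidable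

universe u

variable {G : Type u} [Group G] {D : Set G}

theorem mul_card_filter_comm {ι κ : Type*} (s : Finset ι) (t : Finset κ) (r : ι → κ → Prop) :
    ∑ x ∈ s, (t.filter fun y => r x y).card = ∑ y ∈ t, (s.filter fun x => r x y).card := by
  simp only [Finset.card_eq_sum_ones, Finset.sum_filter]
  exact Finset.sum_comm

theorem card_filter_inter [Finite G] (p : G) (P : G → Prop) [DecidablePred P] (S : Set G)
    (h : ∀ x, x ∈ S ↔ x ∈ perp D p ∧ P x) : ((nb D p).filter fun y => P y).card = S.ncard := by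
  rw [card_filter_nb]
  congr 1
  ext x
  exact (h x).symm

namespace Tower

variable [Finite G] {k l l' m' m'' : ℕ} (T : Tower D k l l' m' m'')
include T

theorem inter_const {a c a' c' : G} (ha : a ∈ D) (hc : c ∈ D) (hac : ¬ Commute a c) (ha' : a' ∈ D) (hc' : c' ∈ D)
    (hac' : ¬ Commute a' c') : ∃ g : G, g * a * g⁻¹ = a' ∧ g * c * g⁻¹ = c' := by
  obtain ⟨g₁, hg₁⟩ := exists_conj T.rich.cls ha ha'
  have hn : ¬ Commute a' (g₁ * c * g₁⁻¹) := fun e => hac ((conj_commute_iff g₁ a c).1 (by rwa [hg₁]))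
  obtain ⟨g₂, hg₂a, hg₂⟩ := T.rich.nonperp_transitive ha' (conj_mem T.rich.cls g₁ hc) hn hc' hac'
  refine ⟨g₂ * g₁, ?_, ?_⟩
  · calc g₂ * g₁ * a * (g₂ * g₁)⁻¹ = g₂ * (g₁ * a * g₁⁻¹) * g₂⁻¹ := by group
      _ = a' := by rw [hg₁, hg₂a.eq, mul_inv_cancel_right]
  · rw [← hg₂]; group

theorem inter_card_const {a c a' c' : G} (ha : a ∈ D) (hc : c ∈ D) (hac : ¬ Commute a c) (ha' : a' ∈ D)
    (hc' : c' ∈ D) (hac' : ¬ Commute a' c') :
    (perp D a ∩ perp D c).ncard = (perp D a' ∩ perp D c').ncard := by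
  obtain ⟨g, rfl, rfl⟩ := T.inter_const ha hc hac ha' hc' hac'
  rw [← conj_image_inter T.rich.cls, Set.ncard_image_of_injective _ (conj_image_injective g)]

theorem card_nb {p : G} (hp : p ∈ D) : (nb D p).card = k := by
  rw [← T.deg p hp, nb, Set.ncard_eq_toFinset_card (perp D p) (Set.toFinite _)]

/-- Members commuting with a member of `perp D p` inside it, the member included. -/
theorem nb_one {p x : G} (hp : p ∈ D) (hx : x ∈ perp D p) :
    ((nb D p).filter fun y => Commute y x).card = l + 1 := by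
  have e : (nb D p).filter (fun y => Commute y x) =
      insert x ((nb D p).filter fun y => y ∈ perp D x) := by
    ext y
    simp only [Finset.mem_filter, Finset.mem_insert, mem_nb]
    constructor
    · rintro ⟨hy, hc⟩
      by_cases e : y = x
      · exact Or.inl e
      · exact Or.inr ⟨hy, hy.1, e, hc.symm⟩
    · rintro (rfl | ⟨hy, -, -, hc⟩)
      · exact ⟨hx, Commute.refl _⟩
      · exact ⟨hy, hc.symm⟩
  rw [e, Finset.card_insert_of_notMem (fun h => (Finset.mem_filter.1 h).2.2.1 rfl),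
    card_filter_inter p _ (perp D p ∩ perp D x) (fun _ => Iff.rfl), T.adj p hp x hx]

theorem nb_pair {p x y : G} (hp : p ∈ D) (hx : x ∈ perp D p) (hy : y ∈ perp D p) (hc : ¬ Commute x y) :
    ((nb D p).filter fun z => Commute z x ∧ Commute z y).card = m' := by
  rw [card_filter_inter p _ (perp D p ∩ perp D x ∩ perp D y), T.tri_non p hp x hx y hy hc]
  intro z
  constructor
  · rintro ⟨⟨h1, h2⟩, h3⟩; exact ⟨h1, h2.2.2.symm, h3.2.2.symm⟩
  · rintro ⟨h1, h2, h3⟩
    exact ⟨⟨h1, h1.1, fun e => hc (e ▸ h3), h2.symm⟩, h1.1, fun e => hc (e ▸ h2).symm, h3.symm⟩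

theorem nb_two {p x y : G} (hp : p ∈ D) (hx : x ∈ perp D p) (hy : y ∈ perp D p ∩ perp D x) :
    ((nb D p).filter fun z => Commute z x ∧ Commute z y).card = l' + 2 := by
  have e : (nb D p).filter (fun z => Commute z x ∧ Commute z y) =
      insert x (insert y ((nb D p).filter fun z => z ∈ perp D x ∩ perp D y)) := by
    ext z
    simp only [Finset.mem_filter, Finset.mem_insert, mem_nb]
    constructor
    · rintro ⟨hz, h1, h2⟩
      by_cases e : z = x
      · exact Or.inl e
      by_cases e' : z = y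
      · exact Or.inr (Or.inl e')
      · exact Or.inr (Or.inr ⟨hz, ⟨hz.1, e, h1.symm⟩, hz.1, e', h2.symm⟩)
    · rintro (rfl | rfl | ⟨hz, ⟨-, -, h1⟩, -, -, h2⟩)
      · exact ⟨hx, Commute.refl _, hy.2.2.2⟩
      · exact ⟨hy.1, hy.2.2.2.symm, Commute.refl _⟩
      · exact ⟨hz, h1.symm, h2.symm⟩
  rw [e, Finset.card_insert_of_notMem, Finset.card_insert_of_notMem,
    card_filter_inter p _ (perp D p ∩ perp D x ∩ perp D y)
      (fun z => ⟨fun h => ⟨h.1.1, h.1.2, h.2⟩, fun h => ⟨⟨h.1, h.2.1⟩, h.2.2⟩⟩),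
    T.tri_adj p hp x hx y hy]
  · exact fun h => (Finset.mem_filter.1 h).2.2.2.1 rfl
  · simp only [Finset.mem_insert, Finset.mem_filter]
    rintro (e | ⟨-, h1, -⟩)
    · exact hy.2.2.1 e.symm
    · exact h1.2.1 rfl

theorem card_comm {p : G} (hp : p ∈ D) : ((mem' D).filter fun y => Commute y p).card = k + 1 := by
  have e : (mem' D).filter (fun y => Commute y p) = insert p (nb D p) := by
    ext y
    simp only [Finset.mem_filter, mem_mem', Finset.mem_insert, mem_nb]
    constructor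
    · rintro ⟨hy, hc⟩
      by_cases e : y = p
      · exact Or.inl e
      · exact Or.inr ⟨hy, e, hc.symm⟩
    · rintro (rfl | ⟨hy, -, hc⟩)
      · exact ⟨hp, Commute.refl _⟩
      · exact ⟨hy, hc.symm⟩
  rw [e, Finset.card_insert_of_notMem (fun hh => (mem_nb.1 hh).2.1 rfl), T.card_nb hp]

theorem common_pair {a c : G} (hac : ¬ Commute a c) :
    ((mem' D).filter fun y => Commute y a ∧ Commute y c).card = (perp D a ∩ perp D c).ncard := by
  rw [← Set.ncard_coe_finset]
  congr 1
  ext y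
  simp only [Finset.coe_filter, mem_mem', Set.mem_ofPred_eq, Set.mem_inter_iff]
  constructor
  · rintro ⟨hy, h1, h2⟩
    exact ⟨⟨hy, fun e => hac (e ▸ h2), h1.symm⟩, hy, fun e => hac (e ▸ h1).symm, h2.symm⟩
  · rintro ⟨⟨hy, -, h1⟩, -, -, h2⟩
    exact ⟨hy, h1.symm, h2.symm⟩

theorem card_inter {a c : G} : (nb D a ∩ nb D c).card = (perp D a ∩ perp D c).ncard := by
  rw [← Set.ncard_coe_finset]
  congr 1
  ext x
  simp [mem_nb]

variable {a c : G} (ha : a ∈ D) (hc : c ∈ D) (hac : ¬ Commute a c)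
include ha hc hac

/-- Noncommuting members do not share all their neighbours. -/
theorem inter_lt : (perp D a ∩ perp D c).ncard < k := by
  refine lt_of_le_of_ne ((T.deg a ha) ▸ Set.ncard_le_ncard Set.inter_subset_left (Set.toFinite _)) fun e => ?_
  have e1 : perp D a ∩ perp D c = perp D a :=
    Set.eq_of_subset_of_ncard_le Set.inter_subset_left (by rw [e, T.deg a ha]) (Set.toFinite _)
  have e2 : perp D a ∩ perp D c = perp D c :=
    Set.eq_of_subset_of_ncard_le Set.inter_subset_right (by rw [e, T.deg c hc]) (Set.toFinite _)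
  refine hac (eq_of_wRel_of_primitive T.rich.prim T.rich.cls T.rich.pair ha hc (fun y hy => ?_) ▸ Commute.refl a)
  have := congrArg (fun S : Set G => y ∈ S) (e1.symm.trans e2)
  simp only [perp, Set.mem_ofPred_eq, hy, true_and, eq_iff_iff] at this
  exact this

theorem paths : ((mem' D).filter fun e => ¬ Commute a e).card * (perp D a ∩ perp D c).ncard = k * (k - (l + 1)) := by
  set N := (mem' D).filter fun e => ¬ Commute a e
  have h1 : ∀ x ∈ nb D a, (N.filter fun e => Commute x e).card = k - (l + 1) := by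
    intro x hx
    rw [mem_nb] at hx
    have e : (nb D x).filter (fun e => ¬ Commute e a) = N.filter fun e => Commute x e := by
      ext e
      simp only [Finset.mem_filter, mem_nb, N, mem_mem']
      constructor
      · rintro ⟨⟨he, -, hxe⟩, hea⟩
        exact ⟨⟨he, fun h' => hea h'.symm⟩, hxe⟩
      · rintro ⟨⟨he, hae⟩, hxe⟩
        exact ⟨⟨he, fun e' => hae (e' ▸ hx.2.2), hxe⟩, fun h' => hae h'.symm⟩
    rw [← e]
    have := Finset.card_filter_add_card_filter_not (s := nb D x) (fun e => Commute e a)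
    rw [T.nb_one hx.1 (show a ∈ perp D x from ⟨ha, hx.2.1.symm, hx.2.2.symm⟩), T.card_nb hx.1] at this
    omega
  have h2 : ∀ e ∈ N, ((nb D a).filter fun x => Commute x e).card = (perp D a ∩ perp D c).ncard := by
    intro e he
    simp only [N, Finset.mem_filter, mem_mem'] at he
    rw [T.inter_card_const ha hc hac ha he.1 he.2, card_filter_inter a _ (perp D a ∩ perp D e)]
    intro x
    exact ⟨fun ⟨hx, hx'⟩ => ⟨hx, hx'.2.2.symm⟩,
      fun ⟨hx, hxe⟩ => ⟨hx, hx.1, fun e' => he.2 (e' ▸ hx.2.2), hxe.symm⟩⟩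
  have key := mul_card_filter_comm (nb D a) N fun x e => Commute x e
  rw [Finset.sum_congr rfl h1, Finset.sum_congr rfl h2, Finset.sum_const, Finset.sum_const, T.card_nb ha,
    smul_eq_mul, smul_eq_mul] at key
  exact key.symm

theorem card_members : D.ncard = ((mem' D).filter fun e => ¬ Commute a e).card + (k + 1) := by
  rw [Set.ncard_eq_toFinset_card D (Set.toFinite _), show (Set.toFinite D).toFinset = mem' D from rfl]
  have := Finset.card_filter_add_card_filter_not (s := mem' D) (fun e => Commute e a)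
  rw [T.card_comm ha] at this
  rw [← this, add_comm]
  congr 1
  exact congrArg Finset.card (Finset.filter_congr fun e _ => not_congr ⟨fun h => h.symm, fun h => h.symm⟩)

/-- The trace condition on the commuting graph. -/
theorem trace_cond : ∃ z : ℤ, (((D.ncard : ℤ) - 1) * ((l : ℤ) - (perp D a ∩ perp D c).ncard) + 2 * k) ^ 2 =
    (((l : ℤ) - (perp D a ∩ perp D c).ncard) ^ 2 + 4 * ((k : ℤ) - (perp D a ∩ perp D c).ncard)) * z ^ 2 := by
  haveI : Nonempty ↥D := ⟨⟨a, ha⟩⟩
  haveI : Fintype ↥D := Fintype.ofFinite _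
  have hcard : (Fintype.card ↥D : ℤ) = D.ncard := by rw [← Nat.card_eq_fintype_card, Nat.card_coe_set_eq]
  rw [← hcard]
  have himg : ∀ (P : G → Prop) (S : Set G), (∀ x, x ∈ S ↔ x ∈ D ∧ P x) → {x : ↥D | P x}.ncard = S.ncard := by
    intro P S hS
    rw [← Set.ncard_image_of_injective _ Subtype.val_injective]
    congr 1
    ext x
    rw [hS]
    exact ⟨by rintro ⟨y, hy, rfl⟩; exact ⟨y.2, hy⟩, fun ⟨hx, hP⟩ => ⟨⟨x, hx⟩, hP, rfl⟩⟩
  refine srg_trace (fun i j : ↥D => (j : G) ∈ perp D i)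
    (fun i j h => ⟨i.2, h.2.1.symm, h.2.2.symm⟩) (fun i h => h.2.1 rfl) k l _ (fun i => ?_) (fun i j h => ?_)
    (fun i j hne h => ?_) (T.inter_lt ha hc hac)
  · rw [himg (fun x => x ∈ perp D i) (perp D i) fun x => ⟨fun h => ⟨h.1, h⟩, fun h => h.2⟩, T.deg i i.2]
  · rw [← T.adj i i.2 j h]
    exact himg (fun x => x ∈ perp D i ∧ (j : G) ∈ perp D x) _ fun x =>
      ⟨fun ⟨h1, h2⟩ => ⟨h1.1, h1, j.2, h2.2.1.symm, h2.2.2.symm⟩,
        fun ⟨_, h1, h2⟩ => ⟨h1, h1.1, h2.2.1.symm, h2.2.2.symm⟩⟩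
  · have hn : ¬ Commute (i : G) j := fun e => h ⟨j.2, fun e' => hne (Subtype.ext e').symm, e⟩
    rw [T.inter_card_const ha hc hac i.2 j.2 hn]
    exact himg (fun x => x ∈ perp D i ∧ (j : G) ∈ perp D x) _ fun x =>
      ⟨fun ⟨h1, h2⟩ => ⟨h1.1, h1, j.2, h2.2.1.symm, h2.2.2.symm⟩,
        fun ⟨_, h1, h2⟩ => ⟨h1, h1.1, h2.2.1.symm, h2.2.2.symm⟩⟩

/-- Neighbours inside a common neighbourhood, the member included. -/
theorem inner_degree {f : G} (hf : f ∈ perp D a ∩ perp D c) :
    ((nb D a ∩ nb D c).filter fun g => Commute g f).card = m' + 1 := by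
  have hfD := hf.1.1
  have haf : a ∈ perp D f := ⟨ha, hf.1.2.1.symm, hf.1.2.2.symm⟩
  have hcf : c ∈ perp D f := ⟨hc, hf.2.2.1.symm, hf.2.2.2.symm⟩
  have e : (nb D a ∩ nb D c).filter (fun g => Commute g f) =
      insert f ((nb D f).filter fun g => Commute g a ∧ Commute g c) := by
    ext g
    simp only [Finset.mem_filter, Finset.mem_inter, Finset.mem_insert, mem_nb]
    constructor
    · rintro ⟨⟨hga, hgc⟩, hgf⟩
      by_cases e : g = f
      · exact Or.inl e
      · exact Or.inr ⟨⟨hga.1, e, hgf.symm⟩, hga.2.2.symm, hgc.2.2.symm⟩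
    · rintro (rfl | ⟨⟨hg, -, hfg⟩, hga, hgc⟩)
      · exact ⟨hf, Commute.refl _⟩
      · exact ⟨⟨⟨hg, fun e => hac (e ▸ hgc), hga.symm⟩, hg, fun e => hac (e ▸ hga).symm, hgc.symm⟩, hfg.symm⟩
  rw [e, Finset.card_insert_of_notMem (fun hh => (mem_nb.1 (Finset.mem_filter.1 hh).1).2.1 rfl),
    T.nb_pair hfD haf hcf hac]

/-- The second moment over the neighbourhood of `a` bounds the common neighbours. -/
theorem window (hpos : 0 < (perp D a ∩ perp D c).ncard) : ((perp D a ∩ perp D c).ncard : ℤ) * ((l : ℤ) - m') ^ 2 ≤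
    ((k : ℤ) - (perp D a ∩ perp D c).ncard) * ((l + 1) + m' * (l' + 2) +
      (((perp D a ∩ perp D c).ncard : ℤ) - (m' + 1)) * m' - (m' + 1) ^ 2) := by
  have hM : (nb D a ∩ nb D c).card = (perp D a ∩ perp D c).ncard := T.card_inter
  set μ := (perp D a ∩ perp D c).ncard
  set U := nb D a ∩ nb D c with hU
  have hsub : U ⊆ nb D a := Finset.inter_subset_left
  have hUD : ∀ f ∈ U, f ∈ perp D a := fun f hf => mem_nb.1 (hsub hf)
  have hin : ∀ f ∈ U, (U.filter fun g => Commute g f).card = m' + 1 := fun f hf => by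
    simp only [hU, Finset.mem_inter, mem_nb] at hf
    exact T.inner_degree ha hc hac hf
  let b : G → ℕ := fun x => (U.filter fun g => Commute g x).card
  have m1 : ∑ x ∈ nb D a, b x = μ * (l + 1) := by
    rw [show ∑ x ∈ nb D a, b x = ∑ g ∈ U, ((nb D a).filter fun x => Commute g x).card from
      mul_card_filter_comm (nb D a) U fun x g => Commute g x,
      Finset.sum_congr rfl (fun g hg => (congrArg Finset.card (Finset.filter_congr fun x _ =>
        (⟨fun h => h.symm, fun h => h.symm⟩ : Commute g x ↔ Commute x g))).trans (T.nb_one ha (hUD g hg))),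
      Finset.sum_const, smul_eq_mul, hM]
  have hT : ∀ f ∈ U, (∑ g ∈ U, (((nb D a).filter fun x => Commute x f ∧ Commute x g).card : ℤ)) =
      (l + 1) + m' * (l' + 2) + ((μ : ℤ) - (m' + 1)) * m' := by
    intro f hf
    have hfm : f ∈ U.filter fun g => Commute g f := Finset.mem_filter.2 ⟨hf, Commute.refl f⟩
    rw [← Finset.sum_filter_add_sum_filter_not U (fun g => Commute g f), ← Finset.add_sum_erase _ _ hfm]
    have e1 : ∀ g ∈ (U.filter fun g => Commute g f).erase f,
        (((nb D a).filter fun x => Commute x f ∧ Commute x g).card : ℤ) = l' + 2 := by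
      intro g hg
      obtain ⟨hne, hg⟩ := Finset.mem_erase.1 hg
      obtain ⟨hgU, hgf⟩ := Finset.mem_filter.1 hg
      rw [T.nb_two ha (hUD f hf) ⟨hUD g hgU, (hUD g hgU).1, hne, hgf.symm⟩]
      push_cast; rfl
    have e2 : ∀ g ∈ U.filter (fun g => ¬ Commute g f),
        (((nb D a).filter fun x => Commute x f ∧ Commute x g).card : ℤ) = m' := by
      intro g hg
      obtain ⟨hgU, hgf⟩ := Finset.mem_filter.1 hg
      rw [T.nb_pair ha (hUD f hf) (hUD g hgU) fun h' => hgf h'.symm]
    have e0 : ((nb D a).filter fun x => Commute x f ∧ Commute x f).card = l + 1 := by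
      rw [← T.nb_one ha (hUD f hf)]
      exact congrArg Finset.card (Finset.filter_congr fun x _ => ⟨fun h => h.1, fun h => ⟨h, h⟩⟩)
    rw [Finset.sum_congr rfl e1, Finset.sum_congr rfl e2, e0, Finset.sum_const, Finset.sum_const, nsmul_eq_mul,
      nsmul_eq_mul, Finset.card_erase_of_mem hfm, hin f hf]
    have h2 := Finset.card_filter_add_card_filter_not (s := U) (fun g => Commute g f)
    rw [hin f hf, hM] at h2
    have h3 : ((U.filter fun g => ¬ Commute g f).card : ℤ) = μ - (m' + 1) := by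
      rw [← h2]; push_cast; ring
    rw [h3]
    push_cast
    ring
  have key : ∑ x ∈ nb D a, (b x : ℤ) ^ 2 =
      ∑ f ∈ U, ∑ g ∈ U, (((nb D a).filter fun x => Commute x f ∧ Commute x g).card : ℤ) := by
    simp only [b, Finset.card_eq_sum_ones, Finset.sum_filter, Nat.cast_sum, Nat.cast_ite, Nat.cast_one, Nat.cast_zero,
      sq, Finset.sum_mul, Finset.mul_sum, ite_mul, one_mul, zero_mul, ← ite_and]
    rw [Finset.sum_comm]
    refine Finset.sum_congr rfl fun x _ => ?_
    rw [Finset.sum_comm]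
    refine Finset.sum_congr rfl fun y _ => Finset.sum_congr rfl fun h _ => ?_
    have hs : ∀ u v : G, Commute u v ↔ Commute v u := fun u v => ⟨fun e => e.symm, fun e => e.symm⟩
    by_cases h1 : Commute x h <;> by_cases h2 : Commute y h <;> simp [h1, h2, hs h x, hs h y]
  rw [Finset.sum_congr rfl hT, Finset.sum_const, nsmul_eq_mul, hM] at key
  have r1 : ∑ x ∈ nb D a \ U, (b x : ℤ) + μ * (m' + 1) = μ * (l + 1) := by
    rw [show (μ : ℤ) * (l + 1) = ((μ * (l + 1) : ℕ) : ℤ) by push_cast; ring, ← m1, Nat.cast_sum,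
      ← Finset.sum_sdiff hsub, Finset.sum_congr (s₁ := U) rfl (fun f hf => congrArg Nat.cast (hin f hf)),
      Finset.sum_const, nsmul_eq_mul, hM]
    push_cast; ring
  have r2 : ∑ x ∈ nb D a \ U, (b x : ℤ) ^ 2 + μ * (m' + 1) ^ 2 = ∑ x ∈ nb D a, (b x : ℤ) ^ 2 := by
    rw [← Finset.sum_sdiff hsub, Finset.sum_congr (s₁ := U) rfl
      (fun f hf => congrArg (fun n : ℕ => (n : ℤ) ^ 2) (hin f hf)), Finset.sum_const, nsmul_eq_mul, hM]
    push_cast; ring
  have hR : ((nb D a \ U).card : ℤ) = k - μ := by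
    have := Finset.card_sdiff_add_card_eq_card hsub
    rw [hM, T.card_nb ha] at this
    omega
  have hcs := sq_sum_le_card_mul_sum_sq (s := nb D a \ U) (f := fun x => (b x : ℤ))
  rw [hR] at hcs
  have q1 : ∑ x ∈ nb D a \ U, (b x : ℤ) = μ * ((l : ℤ) - m') := by linarith
  have q2 : ∑ x ∈ nb D a \ U, (b x : ℤ) ^ 2 =
      μ * ((l + 1) + m' * (l' + 2) + ((μ : ℤ) - (m' + 1)) * m' - (m' + 1) ^ 2) := by linarith
  rw [q1, q2] at hcs
  refine le_of_mul_le_mul_left ?_ (show (0 : ℤ) < μ by exact_mod_cast hpos)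
  linarith

end Tower

end Cfsg.Lib.ThreeTr
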