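import Cfsg.Agent.ThreeTransposition.RelationTypes

/-!
The members commuting with one member of a primitive class, modulo the centre of the group they generate, form a
primitive class once they are twin-free, have trivial centre and no two of them have the same neighbours.
-/

set_option autoImplicit false
set_option linter.unusedSectionVars false
set_option linter.style.haveILetI false

namespace Cfsg.Lib.ThreeTr

open Cfsg Subgroup

variable {G : Type*} [Group G] {D : Set G}

/-- No two noncommuting members have the same neighbours. -/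
def NeighbourFree (D : Set G) : Prop := ∀ a ∈ D, ∀ b ∈ D, WRel D a b → a = b

theorem neighbourFree_of_simple [Finite G] [IsSimpleGroup G] (hD : IsThreeTranspositionClass D) :
    NeighbourFree D := by
  intro a ha b hb h
  haveI : Fact (Nat.Prime 3) := ⟨Nat.prime_three⟩
  exact eq_of_mul_mem_center hD ha hb (pCore_le_center_of_simple (wRel_mem_pCore hD ha hb h))

/-- The property climbs from the members commuting with one member. -/
theorem neighbourFree_of_desc [Finite G] (hD : IsThreeTranspositionClass D) (hT : TwinFree D) {d : G} (hd : d ∈ D)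
    (hne : (perp D d).Nonempty) (hN : NeighbourFree (descSet D d)) : NeighbourFree D := by
  intro a ha b hb h
  by_contra hab
  have hnc := h.not_commute hb hab
  obtain ⟨x, hx⟩ := hne
  obtain ⟨g, hg⟩ := exists_conj hD hd ha
  have hxa : g * x * g⁻¹ ∈ perp D a := hg ▸ conj_image_perp hD g d ▸ ⟨x, hx, rfl⟩
  set f := g * x * g⁻¹
  have hfb := (h f hxa.1).1 ⟨hxa.2.1, hxa.2.2⟩
  obtain ⟨k, hk⟩ := exists_conj hD hxa.1 hd
  have hmem : ∀ {z}, z ∈ perp D f → k * z * k⁻¹ ∈ perp D d := fun {z} hz =>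
    hk ▸ conj_image_perp hD k f ▸ ⟨z, hz, rfl⟩
  have ha' := hmem (show a ∈ perp D f from ⟨ha, hxa.2.1.symm, hxa.2.2.symm⟩)
  have hb' := hmem (show b ∈ perp D f from ⟨hb, hfb.1.symm, hfb.2.symm⟩)
  have h' := (wRel_isClassRel hD).equiv k ha hb h
  set a' := k * a * k⁻¹
  set b' := k * b * k⁻¹
  have hconj : ∀ g : G, ∀ d ∈ D, g * d * g⁻¹ ∈ D := fun g d hd => conj_mem hD g hd
  have hnc' : ∀ x : ↥(closure (perp D d)), (x : G) ∈ perp D d → x ∉ center ↥(closure (perp D d)) :=
    fun x hx => not_mem_center_of_twinFree hD hT hd hx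
  set A : ↥(closure (perp D d)) := ⟨a', subset_closure ha'⟩
  set B : ↥(closure (perp D d)) := ⟨b', subset_closure hb'⟩
  have hAB : (A : ↥(closure (perp D d)) ⧸ center ↥(closure (perp D d))) = B := by
    refine hN _ ⟨A, ha', rfl⟩ _ ⟨B, hb', rfl⟩ ?_
    rintro _ ⟨y, hy, rfl⟩
    have key : ∀ {U : ↥(closure (perp D d))}, (U : G) ∈ perp D d →
        (((y : ↥(closure (perp D d)) ⧸ center ↥(closure (perp D d))) ≠ U ∧
          Commute (U : ↥(closure (perp D d)) ⧸ center ↥(closure (perp D d))) y) ↔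
        ((y : G) ≠ U ∧ Commute (U : G) y)) := fun {U} hU => by
      refine and_congr (not_congr ⟨fun e => congrArg Subtype.val (mk_injOn hD.1 hconj hy hU (hnc' y hy) e),
        fun e => congrArg _ (Subtype.ext e)⟩) ⟨fun e => commute_of_commute_mk hD.1 hconj hU hy (hnc' U hU) e,
        fun e => (show Commute U y from Subtype.ext e.eq).map (QuotientGroup.mk' _)⟩
    exact (key (U := A) ha').trans ((h' y hy.1).trans (key (U := B) hb').symm)
  exact hab (mul_left_cancel (mul_right_cancel (congrArg Subtype.val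
    (mk_injOn hD.1 hconj ha' hb' (hnc' A ha') hAB))))

/-- Twin-free, neighbour-free, trivial centre and linked classes are primitive. -/
theorem primitive_of_linked [Finite G] (hD : IsThreeTranspositionClass D) (hT : TwinFree D) (hN : NeighbourFree D)
    (hD2 : ∃ a ∈ D, ∃ b ∈ D, a ≠ b) (hl : ∀ a ∈ D, ∀ b ∈ D, Linked D a b) : IsPrimitiveUnderConj D := by
  obtain ⟨d, hd, -⟩ := hD.2.1
  have h2 : pCore 2 G ≤ center G := by
    by_contra h
    haveI := (Cfsg.Lib.Components.pCore_normal_and_isPGroup (G := G) 2).1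
    obtain ⟨g, hg, hgd⟩ := exists_moved hD h hd
    exact hgd (hT _ (conj_mem hD g hd) d hd (vRel_of_mem_pCore hD hd (conj_mem hD g hd) (moved_diff_mem hg)))
  have h3 : pCore 3 G ≤ center G := by
    by_contra h
    haveI := (Cfsg.Lib.Components.pCore_normal_and_isPGroup (G := G) 3).1
    obtain ⟨g, hg, hgd⟩ := exists_moved hD h hd
    exact hgd (hN d hd _ (conj_mem hD g hd) (wRel_of_mem_pCore hD hd (conj_mem hD g hd) (moved_diff_mem hg))).symm
  have hS : Semisimple D := ⟨hD, hD2, h2, h3⟩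
  exact hS.primitive (hS.index_le_two_of_linked hl)

/-- In a primitive class two noncommuting members commuting with `p` have a common neighbour commuting with `p`,
once one such pair has. -/
theorem Rich.common_neighbour [Finite G] (hR : Rich D) {p x y p₀ x₀ y₀ z₀ : G} (hp : p ∈ D) (hx : x ∈ perp D p)
    (hy : y ∈ perp D p) (hxy : ¬ Commute x y) (hp₀ : p₀ ∈ D) (hx₀ : x₀ ∈ perp D p₀) (hy₀ : y₀ ∈ perp D p₀)
    (hxy₀ : ¬ Commute x₀ y₀) (hz₀ : z₀ ∈ perp D p₀) (hzx : Commute z₀ x₀) (hzy : Commute z₀ y₀) :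
    ∃ z ∈ perp D p, Commute z x ∧ Commute z y := by
  have hD := hR.cls
  by_contra hcon
  push Not at hcon
  have hiso : ∀ m ∈ D, Commute m x → Commute m y → m ≠ p → ¬ Commute p m := fun m hm h1 h2 hmp hpm =>
    hcon m ⟨hm, hmp, hpm⟩ h1 h2
  obtain ⟨g₁, hg₁⟩ := exists_conj hD hx₀.1 hx.1
  have hn : ¬ Commute x (g₁ * y₀ * g₁⁻¹) := fun e => hxy₀ ((conj_commute_iff g₁ x₀ y₀).1 (by rwa [hg₁]))
  obtain ⟨g₂, hg₂x, hg₂⟩ := hR.nonperp_transitive hx.1 (conj_mem hD g₁ hy₀.1) hn hy.1 hxy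
  set g := g₂ * g₁
  have egx : g * x₀ * g⁻¹ = x := by
    calc g₂ * g₁ * x₀ * (g₂ * g₁)⁻¹ = g₂ * (g₁ * x₀ * g₁⁻¹) * g₂⁻¹ := by group
      _ = x := by rw [hg₁, hg₂x.eq, mul_inv_cancel_right]
  have egy : g * y₀ * g⁻¹ = y := by rw [← hg₂]; simp only [g]; group
  have mv : ∀ m ∈ D, Commute m x₀ → Commute m y₀ →
      g * m * g⁻¹ ∈ D ∧ Commute (g * m * g⁻¹) x ∧ Commute (g * m * g⁻¹) y := fun m hm h1 h2 =>
    ⟨conj_mem hD g hm, egx ▸ (conj_commute_iff g m x₀).2 h1, egy ▸ (conj_commute_iff g m y₀).2 h2⟩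
  obtain ⟨hA, hAx, hAy⟩ := mv p₀ hp₀ hx₀.2.2 hy₀.2.2
  obtain ⟨hB, hBx, hBy⟩ := mv z₀ hz₀.1 hzx hzy
  set a := g * p₀ * g⁻¹
  set b := g * z₀ * g⁻¹
  have hab : Commute a b := (conj_commute_iff g p₀ z₀).2 hz₀.2.2
  have hne : a ≠ b := fun e => hz₀.2.1 (mul_left_cancel (mul_right_cancel e)).symm
  by_cases hap : a = p
  · exact hcon b ⟨hB, fun e => hne (hap.trans e.symm), hap ▸ hab⟩ hBx hBy
  -- moving `a` to `p` inside the centraliser of `x` and `y`
  have hpa := hiso a hA hAx hAy hap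
  have hmove : (a * p) * a * (a * p)⁻¹ = p := mul_conj_eq hD.1 hA hp fun h => hpa h.symm
  have fixes : ∀ w, Commute w a → Commute w p → Commute (a * p) w := fun w h1 h2 => (h1.mul_right h2).symm
  refine hcon ((a * p) * b * (a * p)⁻¹) ⟨conj_mem hD _ hB, fun e => hne ?_, ?_⟩ ?_ ?_
  · exact mul_left_cancel (mul_right_cancel (hmove.trans e.symm))
  · have := (conj_commute_iff (a * p) a b).2 hab
    rwa [hmove] at this
  · have := (conj_commute_iff (a * p) b x).2 hBx
    rwa [(fixes x hAx.symm hx.2.2.symm).eq, mul_inv_cancel_right] at this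
  · have := (conj_commute_iff (a * p) b y).2 hBy
    rwa [(fixes y hAy.symm hy.2.2.symm).eq, mul_inv_cancel_right] at this

/-- The descended class is linked. -/
theorem linked_descSet {p : G} (hex : ∀ x ∈ perp D p, ∀ y ∈ perp D p, ¬ Commute x y →
    ∃ z ∈ perp D p, Commute z x ∧ Commute z y) :
    ∀ a ∈ descSet D p, ∀ b ∈ descSet D p, Linked (descSet D p) a b := by
  rintro _ ⟨x, hx, rfl⟩ _ ⟨y, hy, rfl⟩
  have step : ∀ {u v : ↥(closure (perp D p))}, (u : G) ∈ perp D p → (v : G) ∈ perp D p → Commute (u : G) v →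
      Linked (descSet D p) (QuotientGroup.mk u) (QuotientGroup.mk v) := fun {u v} hu hv hc =>
    Relation.ReflTransGen.single ⟨⟨u, hu, rfl⟩, ⟨v, hv, rfl⟩,
      (show Commute u v from Subtype.ext hc.eq).map (QuotientGroup.mk' _)⟩
  by_cases hc : Commute (x : G) y
  · exact step hx hy hc
  obtain ⟨z, hz, hzx, hzy⟩ := hex x hx y hy hc
  exact (step (v := ⟨z, subset_closure hz⟩) hx hz hzx.symm).trans (step hz hy hzy)

end Cfsg.Lib.ThreeTr
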