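import Cfsg.Agent.ThreeTransposition.M22Count.Graph

/-!
Parameters of a class of 3-transpositions read from the class of the members commuting with one of them, taken
modulo the centre of the group they generate.
-/

set_option autoImplicit false
set_option linter.unusedSectionVars false
set_option linter.style.haveILetI false

namespace Cfsg.Lib.ThreeTr

open Cfsg Subgroup

attribute [local instance] _root_.Classical.propDecidable

universe u

variable {G : Type u} [Group G] {D : Set G}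

theorem mem_inter_perp {p x z : G} (h : z ∈ perp D p ∩ perp D x) : z ∈ D ∧ Commute z p ∧ Commute z x :=
  ⟨h.1.1, h.1.2.2.symm, h.2.2.2.symm⟩

/-- `N` members, each with `k` neighbours, commuting pairs with `l` common neighbours, noncommuting ones with `m`,
`m'` of them commuting with one of themselves; two noncommuting members and the third of their line are the only
members commuting with all their common neighbours. -/
structure Level (D : Set G) (N k l m m' : ℕ) : Prop where
  card : D.ncard = N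
  deg : ∀ p ∈ D, (perp D p).ncard = k
  adj : ∀ p ∈ D, ∀ x ∈ perp D p, (perp D p ∩ perp D x).ncard = l
  nonadj : ∀ p ∈ D, ∀ x ∈ D, ¬ Commute p x → (perp D p ∩ perp D x).ncard = m
  tri_non : ∀ p ∈ D, ∀ x ∈ perp D p, ∀ y ∈ perp D p, ¬ Commute x y →
    (perp D p ∩ perp D x ∩ perp D y).ncard = m'
  double : ∀ x ∈ D, ∀ y ∈ D, ¬ Commute x y → ∀ w ∈ D,
    (∀ z ∈ D, Commute z x → Commute z y → Commute z w) → w = x ∨ w = y ∨ w = x * y * x

/-- The parameters seen inside neighbourhoods. -/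
structure Tower (D : Set G) (k l l' m' m'' : ℕ) : Prop where
  rich : Rich D
  twin : TwinFree D
  center_eq : center G = ⊥
  deg : ∀ p ∈ D, (perp D p).ncard = k
  adj : ∀ p ∈ D, ∀ x ∈ perp D p, (perp D p ∩ perp D x).ncard = l
  tri_adj : ∀ p ∈ D, ∀ x ∈ perp D p, ∀ y ∈ perp D p ∩ perp D x, (perp D p ∩ perp D x ∩ perp D y).ncard = l'
  tri_non : ∀ p ∈ D, ∀ x ∈ perp D p, ∀ y ∈ perp D p, ¬ Commute x y →
    (perp D p ∩ perp D x ∩ perp D y).ncard = m'
  quad_non : ∀ p ∈ D, ∀ x ∈ perp D p, ∀ y ∈ perp D p ∩ perp D x, ∀ z ∈ perp D p ∩ perp D x, ¬ Commute y z →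
    (perp D p ∩ perp D x ∩ perp D y ∩ perp D z).ncard = m''
  double' : ∀ p ∈ D, ∀ x ∈ perp D p, ∀ y ∈ perp D p, ¬ Commute x y → ∀ w ∈ perp D p,
    (∀ z ∈ perp D p, Commute z x → Commute z y → Commute z w) → w = x ∨ w = y ∨ w = x * y * x

section Lift

variable [Finite G] (hcls : IsThreeTranspositionClass D) (hT : TwinFree D) {d : G} (hd : d ∈ D)

/-- The image of a part of `perp D d`. -/
def descImg (D : Set G) (d : G) (S : Set G) : Set (↥(closure (perp D d)) ⧸ center ↥(closure (perp D d))) :=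
  (QuotientGroup.mk : ↥(closure (perp D d)) → _) '' {x | (x : G) ∈ S}

include hcls hT hd

theorem desc_mk_inj {x y : ↥(closure (perp D d))} (hx : (x : G) ∈ perp D d) (hy : (y : G) ∈ perp D d)
    (e : (x : ↥(closure (perp D d)) ⧸ center ↥(closure (perp D d))) = y) : (x : G) = y :=
  congrArg Subtype.val (mk_injOn hcls.1 (fun g _ he => conj_mem hcls g he) hx hy
    (not_mem_center_of_twinFree hcls hT hd hx) e)

theorem desc_commute_iff {x y : ↥(closure (perp D d))} (hx : (x : G) ∈ perp D d) (hy : (y : G) ∈ perp D d) :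
    Commute (x : ↥(closure (perp D d)) ⧸ center ↥(closure (perp D d))) y ↔ Commute (x : G) y :=
  ⟨fun e => commute_of_commute_mk hcls.1 (fun g _ he => conj_mem hcls g he) hx hy
      (not_mem_center_of_twinFree hcls hT hd hx) e,
    fun e => (show Commute x y from Subtype.ext e.eq).map (QuotientGroup.mk' _)⟩

theorem ncard_descImg {S : Set G} (hS : S ⊆ perp D d) : (descImg D d S).ncard = S.ncard := by
  have hinj : Set.InjOn (QuotientGroup.mk : ↥(closure (perp D d)) → _ ⧸ center ↥(closure (perp D d)))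
      {x : ↥(closure (perp D d)) | (x : G) ∈ S} :=
    fun x hx y hy e => Subtype.ext (desc_mk_inj hcls hT hd (hS hx) (hS hy) e)
  rw [descImg, hinj.ncard_image, ← Set.ncard_image_of_injective _ Subtype.val_injective]
  congr 1
  ext x
  exact ⟨by rintro ⟨y, hy, rfl⟩; exact hy, fun hx => ⟨⟨x, subset_closure (hS hx)⟩, hx, rfl⟩⟩

theorem descImg_inter {S T : Set G} (hS : S ⊆ perp D d) (hT' : T ⊆ perp D d) :
    descImg D d (S ∩ T) = descImg D d S ∩ descImg D d T := by
  refine Set.Subset.antisymm (fun q ⟨x, hx, e⟩ => ⟨⟨x, hx.1, e⟩, ⟨x, hx.2, e⟩⟩) ?_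
  rintro q ⟨⟨x, hx, rfl⟩, ⟨y, hy, e⟩⟩
  exact ⟨x, ⟨hx, desc_mk_inj hcls hT hd (hT' hy) (hS hx) e ▸ hy⟩, rfl⟩

theorem perp_descImg {x : ↥(closure (perp D d))} (hx : (x : G) ∈ perp D d) :
    perp (descSet D d) (x : ↥(closure (perp D d)) ⧸ center ↥(closure (perp D d))) =
      descImg D d (perp D d ∩ perp D x) := by
  ext q
  constructor
  · rintro ⟨⟨y, hy, rfl⟩, hne, hc⟩
    exact ⟨y, ⟨hy, hy.1, fun e => hne (congrArg _ (Subtype.ext e)), (desc_commute_iff hcls hT hd hx hy).1 hc⟩, rfl⟩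
  · rintro ⟨y, ⟨hy, hyx⟩, rfl⟩
    exact ⟨⟨y, hy, rfl⟩, fun e => hyx.2.1 (desc_mk_inj hcls hT hd hy hx e),
      (desc_commute_iff hcls hT hd hx hy).2 hyx.2.2⟩

/-- The tower above the parameters of the descended class. -/
theorem Tower.of_level {k l l' m' m'' : ℕ} (hR : Rich D) (hZ : center G = ⊥)
    (hQ : Level (descSet D d) k l l' m' m'') : Tower D k l l' m' m'' := by
  have hmk : ∀ {x}, x ∈ perp D d → ∃ x' : ↥(closure (perp D d)), (x' : G) = x ∧ (x' : G) ∈ perp D d :=
    fun {x} hx => ⟨⟨x, subset_closure hx⟩, rfl, hx⟩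
  have hdesc : descImg D d (perp D d) = descSet D d := rfl
  have h0 : (perp D d).ncard = k := by rw [← ncard_descImg hcls hT hd subset_rfl, hdesc, hQ.card]
  have h1 : ∀ x ∈ perp D d, (perp D d ∩ perp D x).ncard = l := by
    intro x hx
    obtain ⟨X, rfl, hX⟩ := hmk hx
    rw [← ncard_descImg hcls hT hd Set.inter_subset_left, ← perp_descImg hcls hT hd hX, hQ.deg _ ⟨X, hX, rfl⟩]
  have e2 : ∀ x y : ↥(closure (perp D d)), (x : G) ∈ perp D d → (y : G) ∈ perp D d →
      (perp D d ∩ perp D x ∩ perp D y).ncard =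
        (perp (descSet D d) (x : _ ⧸ center _) ∩ perp (descSet D d) (y : _ ⧸ center _)).ncard := by
    intro x y hx hy
    rw [perp_descImg hcls hT hd hx, perp_descImg hcls hT hd hy,
      ← descImg_inter hcls hT hd Set.inter_subset_left Set.inter_subset_left,
      ncard_descImg hcls hT hd (Set.inter_subset_left.trans Set.inter_subset_left), ← Set.inter_inter_distrib_left,
      ← Set.inter_assoc]
  have hmem2 : ∀ {x y : ↥(closure (perp D d))}, (x : G) ∈ perp D d → (y : G) ∈ perp D d ∩ perp D x →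
      (y : ↥(closure (perp D d)) ⧸ center ↥(closure (perp D d))) ∈
        perp (descSet D d) (x : ↥(closure (perp D d)) ⧸ center ↥(closure (perp D d))) := fun {x y} hx hy => by
    rw [perp_descImg hcls hT hd hx]; exact ⟨y, hy, rfl⟩
  have h2a : ∀ x ∈ perp D d, ∀ y ∈ perp D d ∩ perp D x, (perp D d ∩ perp D x ∩ perp D y).ncard = l' := by
    intro x hx y hy
    obtain ⟨X, rfl, hX⟩ := hmk hx
    obtain ⟨Y, rfl, hY⟩ := hmk hy.1
    rw [e2 X Y hX hY, hQ.adj _ ⟨X, hX, rfl⟩ _ (hmem2 hX hy)]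
  have h2n : ∀ x ∈ perp D d, ∀ y ∈ perp D d, ¬ Commute x y → (perp D d ∩ perp D x ∩ perp D y).ncard = m' := by
    intro x hx y hy hc
    obtain ⟨X, rfl, hX⟩ := hmk hx
    obtain ⟨Y, rfl, hY⟩ := hmk hy
    rw [e2 X Y hX hY, hQ.nonadj _ ⟨X, hX, rfl⟩ _ ⟨Y, hY, rfl⟩ fun e => hc ((desc_commute_iff hcls hT hd hX hY).1 e)]
  have h3 : ∀ x ∈ perp D d, ∀ y ∈ perp D d ∩ perp D x, ∀ z ∈ perp D d ∩ perp D x, ¬ Commute y z →
      (perp D d ∩ perp D x ∩ perp D y ∩ perp D z).ncard = m'' := by
    intro x hx y hy z hz hc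
    obtain ⟨X, rfl, hX⟩ := hmk hx
    obtain ⟨Y, rfl, hY⟩ := hmk hy.1
    obtain ⟨Z, rfl, hZ'⟩ := hmk hz.1
    have := hQ.tri_non _ ⟨X, hX, rfl⟩ _ (hmem2 hX hy) _ (hmem2 hX hz)
      fun e => hc ((desc_commute_iff hcls hT hd hY hZ').1 e)
    rw [perp_descImg hcls hT hd hX, perp_descImg hcls hT hd hY, perp_descImg hcls hT hd hZ',
      ← descImg_inter hcls hT hd Set.inter_subset_left Set.inter_subset_left,
      ← descImg_inter hcls hT hd (Set.inter_subset_left.trans Set.inter_subset_left) Set.inter_subset_left,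
      ncard_descImg hcls hT hd ((Set.inter_subset_left.trans Set.inter_subset_left).trans Set.inter_subset_left)] at this
    rw [← this]
    congr 1
    ext w
    simp only [Set.mem_inter_iff]
    tauto
  have h4 : ∀ x ∈ perp D d, ∀ y ∈ perp D d, ¬ Commute x y → ∀ w ∈ perp D d,
      (∀ z ∈ perp D d, Commute z x → Commute z y → Commute z w) → w = x ∨ w = y ∨ w = x * y * x := by
    intro x hx y hy hc w hw hall
    obtain ⟨X, rfl, hX⟩ := hmk hx
    obtain ⟨Y, rfl, hY⟩ := hmk hy
    obtain ⟨W, rfl, hW⟩ := hmk hw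
    have hXYX : ((X * Y * X : ↥(closure (perp D d))) : G) ∈ perp D d := by
      have := conj_mem_perp (fun g _ he => conj_mem hcls g he) X.2 hY
      rwa [inv_eq hcls.1 hX.1] at this
    rcases hQ.double _ ⟨X, hX, rfl⟩ _ ⟨Y, hY, rfl⟩ (fun e => hc ((desc_commute_iff hcls hT hd hX hY).1 e))
      _ ⟨W, hW, rfl⟩ (by
        rintro _ ⟨Z, hZ', rfl⟩ e1 e2
        exact (desc_commute_iff hcls hT hd hZ' hW).2 (hall Z hZ' ((desc_commute_iff hcls hT hd hZ' hX).1 e1)
          ((desc_commute_iff hcls hT hd hZ' hY).1 e2))) with e | e | e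
    · exact Or.inl (desc_mk_inj hcls hT hd hW hX e)
    · exact Or.inr (Or.inl (desc_mk_inj hcls hT hd hW hY e))
    · exact Or.inr (Or.inr (desc_mk_inj hcls hT hd (y := X * Y * X) hW hXYX e))
  -- carrying everything to the other members
  have key : ∀ p ∈ D, ∃ g : G, g * p * g⁻¹ = d := fun p hp => exists_conj hcls hp hd
  have himg : ∀ g p : G, g * p * g⁻¹ = d → ∀ {x}, x ∈ perp D p → g * x * g⁻¹ ∈ perp D d := fun g p hg {x} hx =>
    hg ▸ conj_image_perp hcls g p ▸ ⟨x, hx, rfl⟩
  have hperp : ∀ g x : G, perp D (g * x * g⁻¹) = (fun z => g * z * g⁻¹) '' perp D x := fun g x =>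
    (conj_image_perp hcls g x).symm
  refine ⟨hR, hT, hZ, fun p hp => (ncard_perp_eq hcls hp hd).trans h0, fun p hp x hx => ?_, fun p hp x hx y hy => ?_,
    fun p hp x hx y hy hc => ?_, fun p hp x hx y hy z hz hc => ?_, fun p hp x hx y hy hc w hw hall => ?_⟩
  · obtain ⟨g, hg⟩ := key p hp
    rw [← h1 _ (himg g p hg hx), hperp, ← hg, hperp, ← Set.image_inter (conj_image_injective g),
      Set.ncard_image_of_injective _ (conj_image_injective g)]
  · obtain ⟨g, hg⟩ := key p hp
    have hy' : g * y * g⁻¹ ∈ perp D d ∩ perp D (g * x * g⁻¹) := ⟨himg g p hg hy.1, hperp g x ▸ ⟨y, hy.2, rfl⟩⟩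
    rw [← h2a _ (himg g p hg hx) _ hy', hperp, hperp, ← hg, hperp, ← Set.image_inter (conj_image_injective g),
      ← Set.image_inter (conj_image_injective g), Set.ncard_image_of_injective _ (conj_image_injective g)]
  · obtain ⟨g, hg⟩ := key p hp
    rw [← h2n _ (himg g p hg hx) _ (himg g p hg hy) fun e => hc ((conj_commute_iff g x y).1 e), hperp, hperp, ← hg,
      hperp, ← Set.image_inter (conj_image_injective g),
      ← Set.image_inter (conj_image_injective g), Set.ncard_image_of_injective _ (conj_image_injective g)]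
  · obtain ⟨g, hg⟩ := key p hp
    have hy' : g * y * g⁻¹ ∈ perp D d ∩ perp D (g * x * g⁻¹) := ⟨himg g p hg hy.1, hperp g x ▸ ⟨y, hy.2, rfl⟩⟩
    have hz' : g * z * g⁻¹ ∈ perp D d ∩ perp D (g * x * g⁻¹) := ⟨himg g p hg hz.1, hperp g x ▸ ⟨z, hz.2, rfl⟩⟩
    rw [← h3 _ (himg g p hg hx) _ hy' _ hz' fun e => hc ((conj_commute_iff g y z).1 e), hperp, hperp, hperp, ← hg,
      hperp, ← Set.image_inter (conj_image_injective g), ← Set.image_inter (conj_image_injective g),
      ← Set.image_inter (conj_image_injective g), Set.ncard_image_of_injective _ (conj_image_injective g)]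
  · obtain ⟨g, hg⟩ := key p hp
    rcases h4 _ (himg g p hg hx) _ (himg g p hg hy) (fun e => hc ((conj_commute_iff g x y).1 e)) _ (himg g p hg hw)
      (fun z hz e1 e2 => by
        rw [← hg, ← conj_image_perp hcls g p] at hz
        obtain ⟨z, hz, rfl⟩ := hz
        exact (conj_commute_iff g z w).2 (hall z hz ((conj_commute_iff g z x).1 e1) ((conj_commute_iff g z y).1 e2)))
      with e | e | e
    · exact Or.inl (mul_left_cancel (mul_right_cancel e))
    · exact Or.inr (Or.inl (mul_left_cancel (mul_right_cancel e)))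
    · refine Or.inr (Or.inr (mul_left_cancel (mul_right_cancel (e.trans ?_))))
      group

end Lift

end Cfsg.Lib.ThreeTr
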